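import Groth.Agent.RadBoundLib.SpreadReduced
import Groth.Agent.GISpreadLib.Cons
import Groth.Agent.S9735
import Groth.Agent.S2535

/-!
# The locus of geometrically reduced fibres
-/

set_option autoImplicit false
set_option linter.style.haveILetI false
universe u

open CategoryTheory CategoryTheory.Limits AlgebraicGeometry TopologicalSpace Topology TensorProduct

namespace RadBoundLib

/-- The points with geometrically reduced fibre. -/
def grLocus {X Y : Scheme.{u}} (f : X ⟶ Y) : Set Y :=
  {y : Y | GeometricallyReduced (f.fiberToSpecResidueField y)}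

theorem grLocus_bc {X Y X' Y' : Scheme.{u}} (f : X ⟶ Y) (f' : X' ⟶ Y') (g' : X' ⟶ X) (g : Y' ⟶ Y)
    (h : IsPullback g' f' f g) : grLocus f' = g.base ⁻¹' grLocus f :=
  Groth.Agent.S9735.result f g f' g' h

theorem geometricallyReduced_iff_grLocus {X Y : Scheme.{u}} (f : X ⟶ Y) :
    GeometricallyReduced f ↔ ∀ y, y ∈ grLocus f :=
  ⟨fun _ y => MorphismProperty.pullback_snd _ _ ‹GeometricallyReduced f›,
    fun h => ⟨geometrically_iff_forall_fiberToSpecResidueField.mpr fun y => (h y).geometrically_isReduced⟩⟩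

/-- Membership in the locus is reducedness of a geometric fibre. -/
theorem mem_grLocus_iff {X Y : Scheme.{u}} (f : X ⟶ Y) (F : Type u) [Field F] [PerfectField F]
    (g : Spec (CommRingCat.of F) ⟶ Y) (x : Spec (CommRingCat.of F)) :
    g.base x ∈ grLocus f ↔ IsReduced (pullback f g) := by
  have h0 : g.base x ∈ grLocus f ↔ GeometricallyReduced (pullback.snd f g) := by
    rw [geometricallyReduced_iff_grLocus, grLocus_bc f (pullback.snd f g) (pullback.fst f g) g
      (IsPullback.of_hasPullback f g)]
    haveI : Subsingleton (Spec (CommRingCat.of F)) := inferInstanceAs (Subsingleton (PrimeSpectrum F))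
    exact ⟨fun h y => Subsingleton.elim x y ▸ h, fun h => h x⟩
  rw [h0]
  constructor
  · intro h
    let m : Spec (CommRingCat.of F) ⟶ Spec (CommRingCat.of F) := 𝟙 _
    haveI : IsReduced (pullback (pullback.snd f g) m) :=
      GeometricallyReduced.geometrically_isReduced _ _ _ (.of_hasPullback _ _)
    exact isReduced_of_isOpenImmersion (inv (pullback.fst (pullback.snd f g) m))
  · intro h
    let m := Spec.map (CommRingCat.ofHom (algebraMap F F))
    haveI hm : IsIso m := by
      show IsIso (Spec.map (CommRingCat.ofHom (algebraMap F F)))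
      rw [Algebra.algebraMap_self, CommRingCat.ofHom_id, Spec.map_id]; infer_instance
    haveI : IsOpenImmersion m := IsOpenImmersion.of_isIso m
    let j := pullback.fst (pullback.snd f g) m
    haveI : IsOpenImmersion j := MorphismProperty.pullback_fst _ _ ‹IsOpenImmersion m›
    haveI : IsReduced (FBase.bc (pullback.snd f g) F) := @isReduced_of_isOpenImmersion _ _ j ‹_› h
    exact Groth.Agent.S2535.result (Ω := F) (pullback.snd f g)

variable {R : Type u} [CommRing R] {X : Scheme.{u}} (f : X ⟶ Spec (CommRingCat.of R))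

/-- Membership in the locus over an affine base. -/
theorem mem_grLocus_affine_iff (F : Type u) [Field F] [IsAlgClosed F] [Algebra R F] (p : PrimeSpectrum R)
    (hp : RingHom.ker (algebraMap R F) = p.asIdeal) :
    p ∈ grLocus f ↔ IsReduced (GISpreadLib.BX f F) := by
  haveI : PerfectField F := IsAlgClosed.perfectField F
  let x : PrimeSpectrum F := ⟨⊥, Ideal.isPrime_bot⟩
  have hx : (Spec.map (CommRingCat.ofHom (algebraMap R F))).base x = p := PrimeSpectrum.ext hp
  rw [← mem_grLocus_iff f F (Spec.map (CommRingCat.ofHom (algebraMap R F))) x]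
  exact iff_of_eq (congrArg (· ∈ grLocus f) hx.symm)

/-- Membership in the locus at an algebraic geometric point over a prime. -/
theorem mem_grLocus_algClosure_iff (p : PrimeSpectrum R) :
    p ∈ grLocus f ↔ IsReduced (GISpreadLib.BX f (AlgebraicClosure p.asIdeal.ResidueField)) := by
  refine mem_grLocus_affine_iff f _ p ?_
  rw [IsScalarTower.algebraMap_eq R p.asIdeal.ResidueField (AlgebraicClosure p.asIdeal.ResidueField),
    RingHom.ker_comp_of_injective _ (algebraMap p.asIdeal.ResidueField _).injective]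
  exact Ideal.ker_algebraMap_residueField p.asIdeal

theorem isReduced_iff_charts {Z : Scheme.{u}} {ι : Type*} (A : ι → Type u) [∀ i, CommRing (A i)]
    (j : ∀ i, Spec (CommRingCat.of (A i)) ⟶ Z) [∀ i, IsOpenImmersion (j i)]
    (hj : ∀ z : Z, ∃ i, z ∈ Set.range (j i).base) :
    IsReduced Z ↔ ∀ i, _root_.IsReduced (A i) := by
  refine ⟨fun _ i => (affine_isReduced_iff (CommRingCat.of (A i))).mp (isReduced_of_isOpenImmersion (j i)),
    fun h => ?_⟩
  haveI : ∀ z : Z, _root_.IsReduced (Z.presheaf.stalk z) := fun z => by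
    obtain ⟨i, w, rfl⟩ := hj z
    haveI : IsReduced (Spec (CommRingCat.of (A i))) := (affine_isReduced_iff _).mpr (h i)
    exact isReduced_of_injective (asIso ((j i).stalkMap w)).commRingCatIsoToRingEquiv
      (RingEquiv.injective _)
  exact isReduced_of_isReduced_stalk Z

/-- Over an integral affine base membership in the locus is generically constant. -/
theorem exists_generic [IsDomain R] [LocallyOfFiniteType f] [QuasiCompact f] :
    ∃ h : R, h ≠ 0 ∧ ∀ p : PrimeSpectrum R, h ∉ p.asIdeal →
      (p ∈ grLocus f ↔ (⟨⊥, Ideal.isPrime_bot⟩ : PrimeSpectrum R) ∈ grLocus f) := by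
  classical
  obtain ⟨S, hS, hSa, hcov⟩ := GISpreadLib.exists_finite_affine_cover f
  choose A _ _ _ ι hopen hι hr using fun U : S => GISpreadLib.exists_chart f (hSa U.1 U.2)
  let K := FractionRing R
  let L := AlgebraicClosure K
  have hred : ∀ (F : Type u) [Field F] [Algebra R F],
      IsReduced (GISpreadLib.BX f F) ↔ ∀ U : S, _root_.IsReduced (F ⊗[R] A U) := by
    intro F _ _
    haveI := hopen
    rw [isReduced_iff_charts (fun U : S => A U ⊗[R] F) (fun U => GISpreadLib.chartX f F (A U) (ι U) (hι U))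
      (fun z => by
        obtain ⟨U, hU, hzU⟩ := hcov ((GISpreadLib.prX f F).base z)
        refine ⟨⟨U, hU⟩, ?_⟩
        rw [GISpreadLib.range_chartX, hr]
        exact hzU)]
    exact forall_congr' fun U =>
      ⟨fun h => isReduced_of_injective (Algebra.TensorProduct.comm R F (A U)) (AlgEquiv.injective _),
        fun h => isReduced_of_injective (Algebra.TensorProduct.comm R (A U) F) (AlgEquiv.injective _)⟩
  haveI : FaithfulSMul R L := (faithfulSMul_iff_algebraMap_injective R L).mpr (by
    rw [IsScalarTower.algebraMap_eq R K L]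
    exact (algebraMap K L).injective.comp (IsFractionRing.injective R K))
  haveI : Algebra.IsAlgebraic R L := (IsFractionRing.comap_isAlgebraic_iff (A := R) (K := K)).mpr inferInstance
  have hη : (⟨⊥, Ideal.isPrime_bot⟩ : PrimeSpectrum R) ∈ grLocus f ↔ ∀ U : S, _root_.IsReduced (L ⊗[R] A U) := by
    rw [mem_grLocus_affine_iff f L ⟨⊥, Ideal.isPrime_bot⟩
      ((RingHom.injective_iff_ker_eq_bot _).mp (FaithfulSMul.algebraMap_injective R L)), hred]
  have hne : ∀ (p : PrimeSpectrum R) (h : R), h ∉ p.asIdeal →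
      algebraMap R (AlgebraicClosure p.asIdeal.ResidueField) h ≠ 0 := fun p h hh => by
    rw [IsScalarTower.algebraMap_apply R p.asIdeal.ResidueField, ne_eq, map_eq_zero]
    exact fun h0 => hh (Ideal.algebraMap_residueField_eq_zero.mp h0)
  by_cases hall : ∀ U : S, _root_.IsReduced (L ⊗[R] A U)
  · choose h hh H using fun U : S => exists_forall_isReduced (A U) (hall U)
    haveI : Fintype S := hS.fintype
    refine ⟨∏ U, h U, Finset.prod_ne_zero_iff.mpr fun U _ => hh U, fun p hp => iff_of_true ?_ (hη.mpr hall)⟩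
    rw [mem_grLocus_algClosure_iff, hred]
    intro U
    exact H U _ (hne p _ fun hmem => hp (Ideal.mem_of_dvd _ (Finset.dvd_prod_of_mem h (Finset.mem_univ U)) hmem))
  · obtain ⟨U, hU⟩ := not_forall.mp hall
    obtain ⟨h, hh, H⟩ := exists_forall_not_isReduced (A U) L hU
    refine ⟨h, hh, fun p hp => iff_of_false (fun hmem => ?_) (fun hmem => hall (hη.mp hmem))⟩
    rw [mem_grLocus_algClosure_iff, hred] at hmem
    exact H _ (hne p _ hp) (hmem U)

end RadBoundLib

namespace RadBoundLib

/-- Membership in the locus is generically constant along the closure of every point. -/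
theorem exists_nhd_grLocus {X Y : Scheme.{u}} (f : X ⟶ Y) [LocallyOfFiniteType f] [QuasiCompact f] (y : Y) :
    ∃ W : Y.Opens, y ∈ W ∧ ∀ y' ∈ W, y ⤳ y' → (y' ∈ grLocus f ↔ y ∈ grLocus f) := by
  obtain ⟨U, hU, hyU⟩ := GISpreadLib.exists_affine_mem y
  let R₀ : Type u := Γ(Y, U)
  let p : Ideal R₀ := (hU.primeIdealOf ⟨y, hyU⟩).asIdeal
  let R := R₀ ⧸ p
  let g : Spec (CommRingCat.of R) ⟶ Y := Spec.map (CommRingCat.ofHom (Ideal.Quotient.mk p)) ≫ hU.fromSpec
  have hgp : g.base (⟨⊥, Ideal.isPrime_bot⟩ : PrimeSpectrum R) = y := by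
    have h1 : (Spec.map (CommRingCat.ofHom (Ideal.Quotient.mk p))).base (⟨⊥, Ideal.isPrime_bot⟩ : PrimeSpectrum R) =
        hU.primeIdealOf ⟨y, hyU⟩ := PrimeSpectrum.ext (Ideal.mk_ker)
    show hU.fromSpec.base ((Spec.map _).base _) = y
    rw [h1]
    exact hU.fromSpec_primeIdealOf ⟨y, hyU⟩
  haveI : LocallyOfFiniteType (pullback.snd f g) := MorphismProperty.pullback_snd _ _ inferInstance
  haveI : QuasiCompact (pullback.snd f g) := MorphismProperty.pullback_snd _ _ inferInstance
  obtain ⟨h, hh, H⟩ := exists_generic (pullback.snd f g)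
  obtain ⟨h₀, rfl⟩ := Ideal.Quotient.mk_surjective h
  have hp0 : h₀ ∉ p := fun hmem => hh (Ideal.Quotient.eq_zero_iff_mem.mpr hmem)
  refine ⟨Y.basicOpen h₀, ?_, fun y' hy' hsp => ?_⟩
  · rw [← hU.fromSpec_image_basicOpen]
    exact ⟨hU.primeIdealOf ⟨y, hyU⟩, hp0, hU.fromSpec_primeIdealOf ⟨y, hyU⟩⟩
  · rw [← hU.fromSpec_image_basicOpen] at hy'
    obtain ⟨q, hq, rfl⟩ := hy'
    have hle : p ≤ q.asIdeal := by
      have : hU.primeIdealOf ⟨y, hyU⟩ ⤳ q := by
        refine hU.fromSpec.isOpenEmbedding.isInducing.specializes_iff.mp ?_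
        exact (congrArg (fun t => t ⤳ hU.fromSpec.base q) (hU.fromSpec_primeIdealOf ⟨y, hyU⟩)).mpr hsp
      exact (PrimeSpectrum.le_iff_specializes _ q).mpr this
    obtain ⟨q', hq'⟩ : ∃ q' : PrimeSpectrum R, q'.asIdeal.comap (Ideal.Quotient.mk p) = q.asIdeal := by
      have : q ∈ Set.range (PrimeSpectrum.comap (Ideal.Quotient.mk p)) := by
        rw [range_comap_of_surjective _ _ Ideal.Quotient.mk_surjective, Ideal.mk_ker]
        exact hle
      obtain ⟨q', rfl⟩ := this
      exact ⟨q', rfl⟩
    have hgq : g.base q' = hU.fromSpec.base q := congrArg hU.fromSpec.base (PrimeSpectrum.ext hq')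
    have key := H q' (fun hmem => hq (by rw [← hq']; exact hmem))
    rw [grLocus_bc f _ (pullback.fst f g) g (IsPullback.of_hasPullback f g)] at key
    change (g.base q' ∈ grLocus f ↔ g.base (⟨⊥, Ideal.isPrime_bot⟩ : PrimeSpectrum R) ∈ grLocus f) at key
    rw [hgp, hgq] at key
    exact key

/-- The locus is the intersection of the loci of the members of an open cover of the source. -/
theorem grLocus_cover {X Y : Scheme.{u}} (f : X ⟶ Y) {ι : Type*} (U : ι → X.Opens)
    (hU : ∀ x, ∃ i, x ∈ U i) : grLocus f = ⋂ i, grLocus ((U i).ι ≫ f) := by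
  ext y
  rw [Set.mem_iInter]
  let F := AlgebraicClosure (Y.residueField y)
  haveI : PerfectField F := IsAlgClosed.perfectField F
  let g : Spec (CommRingCat.of F) ⟶ Y :=
    Spec.map (CommRingCat.ofHom (algebraMap (Y.residueField y) F)) ≫ Y.fromSpecResidueField y
  let x : Spec (CommRingCat.of F) := (⟨⊥, Ideal.isPrime_bot⟩ : PrimeSpectrum F)
  have hx : g.base x = y := Y.fromSpecResidueField_apply y _
  have h1 : ∀ {Z : Scheme.{u}} (k : Z ⟶ Y), y ∈ grLocus k ↔ IsReduced (pullback k g) := fun k => by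
    rw [← mem_grLocus_iff k F g x, hx]
  simp only [h1]
  let m : ∀ i, pullback ((U i).ι ≫ f) g ⟶ pullback f g := fun i =>
    pullback.map _ _ _ _ (U i).ι (𝟙 _) (𝟙 _) (by simp) (by simp)
  haveI : ∀ i, IsOpenImmersion (m i) := fun i => inferInstance
  refine ⟨fun _ i => isReduced_of_isOpenImmersion (m i), fun h => ?_⟩
  haveI : ∀ z : ↥(pullback f g), _root_.IsReduced ((pullback f g).presheaf.stalk z) := fun z => by
    obtain ⟨i, hi⟩ := hU ((pullback.fst f g).base z)
    obtain ⟨w, rfl⟩ : z ∈ Set.range (m i).base := by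
      show z ∈ Set.range (pullback.map _ _ _ _ (U i).ι (𝟙 _) (𝟙 _) _ _).base
      rw [Scheme.Pullback.range_map, Scheme.Opens.range_ι]
      exact ⟨hi, ⟨_, rfl⟩⟩
    haveI := h i
    exact isReduced_of_injective (asIso ((m i).stalkMap w)).commRingCatIsoToRingEquiv (RingEquiv.injective _)
  exact isReduced_of_isReduced_stalk _

/-- The locus of geometrically reduced fibres is locally constructible. -/
theorem isLocallyConstructible_grLocus {X Y : Scheme.{u}} (f : X ⟶ Y) [QuasiCompact f]
    [LocallyOfFinitePresentation f] : IsLocallyConstructible (grLocus f) := by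
  refine GISpreadLib.isLocallyConstructible_of_cover fun y => ?_
  obtain ⟨U, hU, hyU⟩ := GISpreadLib.exists_affine_mem y
  refine ⟨U, hyU, ?_⟩
  haveI : IsAffine U.toScheme := hU
  let f' := pullback.snd f U.ι
  rw [← grLocus_bc f f' (pullback.fst f U.ι) U.ι (IsPullback.of_hasPullback _ _)]
  haveI : LocallyOfFinitePresentation f' := MorphismProperty.pullback_snd _ _ inferInstance
  haveI : QuasiCompact f' := MorphismProperty.pullback_snd _ _ inferInstance
  haveI : CompactSpace ↥(pullback f U.ι) := QuasiCompact.compactSpace_of_compactSpace f'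
  obtain ⟨S, hS, hfin, he⟩ := (pullback f U.ι).isBasis_affineOpens.exists_finite_of_isCompact (U := ⊤) isCompact_univ
  haveI : Finite S := hfin.to_subtype
  rw [grLocus_cover f' (fun V : S => V.1) (fun z => by
    have hz : z ∈ sSup S := he ▸ trivial
    obtain ⟨V, hV, hzV⟩ := Opens.mem_sSup.mp hz
    exact ⟨⟨V, hV⟩, hzV⟩)]
  refine IsLocallyConstructible.iInter fun V => ?_
  let W : (pullback f U.ι).Opens := V.1
  show IsLocallyConstructible (grLocus (W.ι ≫ f'))
  haveI : IsAffine W.toScheme := hS V.2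
  haveI : IsAffineHom (W.ι ≫ f') := isAffineHom_of_isAffine _
  exact GISpreadLib.isLocallyConstructible_locus (fun {X Y} f => grLocus f) (fun {X Y X' Y'} f f' g' g h => grLocus_bc f f' g' g h)
    (fun {X Y} f _ _ y => exists_nhd_grLocus f y) (W.ι ≫ f')

/-- Over an irreducible base the behaviour at the generic point persists over a nonempty open. -/
theorem exists_opens_generic {X Y : Scheme.{u}} (f : X ⟶ Y) [IrreducibleSpace Y] [LocallyOfFiniteType f]
    [QuasiCompact f] :
    ∃ V : Y.Opens, (V : Set Y).Nonempty ∧ ∀ y ∈ V, (y ∈ grLocus f ↔ genericPoint Y ∈ grLocus f) := by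
  obtain ⟨W, hW, H⟩ := exists_nhd_grLocus f (genericPoint Y)
  exact ⟨W, ⟨_, hW⟩, fun y hy => H y hy (genericPoint_specializes y)⟩

end RadBoundLib
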