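import Groth.Agent.RadBoundLib.GrLocus
import Groth.Agent.S2549
import Groth.Prelude.Def_FDesc

/-!
# Geometric reducedness of fibres point by point
-/

set_option autoImplicit false
set_option linter.style.haveILetI false
universe u

open CategoryTheory CategoryTheory.Limits AlgebraicGeometry TopologicalSpace

namespace RadBoundLib

/-- The points at which the fibre through them is geometrically reduced. -/
def redAt {A B : Scheme.{u}} (g : A ⟶ B) : Set A :=
  {x : A | FBase.IsGeomReducedAt (g.fiberToSpecResidueField (g.base x)) (g.asFiber x)}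

theorem gr_iff_forall_geomReducedAt {k : Type u} [Field k] {Z : Scheme.{u}} (q : Z ⟶ Spec (CommRingCat.of k)) :
    GeometricallyReduced q ↔ ∀ z, FBase.IsGeomReducedAt q z := by
  refine ⟨fun _ z K _ _ z' _ => ?_,
    fun h => ⟨geometrically_iff_of_commRing_of_isClosedUnderIsomorphisms.mpr fun F _ _ => ?_⟩⟩
  · haveI : IsReduced (FBase.bc q K) := GeometricallyReduced.geometrically_isReduced _ _ _ (.of_hasPullback _ _)
    infer_instance
  · haveI : ∀ z', _root_.IsReduced ((FBase.bc q F).presheaf.stalk z') := fun z' => h _ F z' rfl
    exact isReduced_of_isReduced_stalk (FBase.bc q F)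

/-- A fibre is geometrically reduced iff it is so at all its points. -/
theorem mem_grLocus_iff_forall_redAt {A B : Scheme.{u}} (g : A ⟶ B) (y : B) :
    y ∈ grLocus g ↔ ∀ x, g.base x = y → x ∈ redAt g := by
  constructor
  · rintro hy x rfl
    exact (gr_iff_forall_geomReducedAt (k := B.residueField (g.base x)) _).1 hy _
  · intro H
    refine (gr_iff_forall_geomReducedAt (k := B.residueField y) _).2 fun z => ?_
    have hz : g.base ((g.fiberι y).base z) = y := by
      have := Set.mem_range_self (f := g.fiberι y) z
      rwa [g.range_fiberι] at this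
    have key : ∀ (s : B) (x : A), g.base x = s → x ∈ redAt g → ∀ z : g.fiber s, g.fiberι s z = x →
        FBase.IsGeomReducedAt (k := B.residueField s) (g.fiberToSpecResidueField s) z := by
      rintro _ x rfl hx z hz
      obtain rfl : z = g.asFiber x := (g.fiberι (g.base x)).isEmbedding.injective (by rw [g.fiberι_asFiber, hz])
      exact hx
    exact key y _ hz (H _ hz) z rfl

/-- The locus of geometrically reduced fibres of a flat, closed morphism of finite presentation is open. -/
theorem isOpen_grLocus_of_isClosedMap {A B : Scheme.{u}} (g : A ⟶ B) [Flat g] [LocallyOfFinitePresentation g]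
    (hg : IsClosedMap g.base) : IsOpen (grLocus g) := by
  have hO : IsOpen (redAt g) := Groth.Agent.S2549.result g
  convert (hg _ hO.isClosed_compl).isOpen_compl using 1
  ext y
  refine (mem_grLocus_iff_forall_redAt g y).trans ?_
  exact ⟨fun H ⟨x, hx, hxy⟩ => hx (H x hxy), fun H x hxy => not_not.1 fun hx => H ⟨x, hx, hxy⟩⟩

end RadBoundLib
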