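import Groth.Agent.RadBoundLib.Relations

/-!
# Contracting ideals along finite field extensions with bounded degrees
-/

set_option autoImplicit false
universe u

open MvPolynomial

namespace RadBoundLib

variable {N : ℕ} {k k' : Type u} [Field k] [Field k'] [Algebra k k'] {d : ℕ} (b : Module.Basis (Fin d) k k')

/-- The coordinates of a polynomial over `k'` in a basis of `k'`. -/
noncomputable def coordPoly (i : Fin d) (q : MvPolynomial (Fin N) k') : MvPolynomial (Fin N) k :=
  ∑ e ∈ q.support, monomial e (b.coord i (coeff e q))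

theorem coeff_coordPoly (i : Fin d) (q : MvPolynomial (Fin N) k') (e : Fin N →₀ ℕ) :
    coeff e (coordPoly b i q) = b.coord i (coeff e q) := by
  classical
  rw [coordPoly, coeff_sum]
  simp only [coeff_monomial, Finset.sum_ite_eq']
  split_ifs with h
  · rfl
  · rw [notMem_support_iff.mp h, map_zero]

theorem totalDegree_coordPoly (i : Fin d) (q : MvPolynomial (Fin N) k') :
    (coordPoly b i q).totalDegree ≤ q.totalDegree := by
  refine Finset.sup_mono fun e he => ?_
  rw [mem_support_iff, coeff_coordPoly] at he
  rw [mem_support_iff]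
  intro h0
  exact he (by rw [h0, map_zero])

/-- The combination of polynomials over `k` with the basis vectors as coefficients. -/
noncomputable def combPoly (a : Fin d → MvPolynomial (Fin N) k) : MvPolynomial (Fin N) k' :=
  ∑ i, C (b i) * map (algebraMap k k') (a i)

theorem coeff_combPoly (a : Fin d → MvPolynomial (Fin N) k) (e : Fin N →₀ ℕ) :
    coeff e (combPoly b a) = ∑ i, coeff e (a i) • b i := by
  rw [combPoly, coeff_sum]
  refine Finset.sum_congr rfl fun i _ => ?_
  rw [coeff_C_mul, coeff_map, Algebra.smul_def, mul_comm]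

theorem coordPoly_combPoly (a : Fin d → MvPolynomial (Fin N) k) (i : Fin d) :
    coordPoly b i (combPoly b a) = a i := by
  ext e
  rw [coeff_coordPoly, coeff_combPoly, Module.Basis.coord_apply, b.repr_sum_self]

theorem combPoly_coordPoly (q : MvPolynomial (Fin N) k') : combPoly b (fun i => coordPoly b i q) = q := by
  ext e
  rw [coeff_combPoly]
  simp only [coeff_coordPoly, Module.Basis.coord_apply]
  exact b.sum_repr _

theorem combPoly_sum_mul {n : ℕ} (v : Fin n → MvPolynomial (Fin N) k) (q : Fin n → MvPolynomial (Fin N) k') :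
    combPoly b (fun i => ∑ j, v j * coordPoly b i (q j)) = ∑ j, map (algebraMap k k') (v j) * q j := by
  conv_rhs => enter [2, j]; rw [← combPoly_coordPoly b (q j)]
  simp only [combPoly, map_sum, map_mul, Finset.mul_sum]
  rw [Finset.sum_comm]
  exact Finset.sum_congr rfl fun j _ => Finset.sum_congr rfl fun i _ => mul_left_comm _ _ _

theorem sum_mul_coordPoly_eq_zero_iff {n : ℕ} (v : Fin n → MvPolynomial (Fin N) k)
    (q : Fin n → MvPolynomial (Fin N) k') :
    (∀ i, ∑ j, v j * coordPoly b i (q j) = 0) ↔ ∑ j, map (algebraMap k k') (v j) * q j = 0 := by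
  rw [← combPoly_sum_mul b v q]
  refine ⟨fun h => by simp [combPoly, h], fun h i => ?_⟩
  have := congrArg (coordPoly b i) h
  rw [coordPoly_combPoly] at this
  rw [this]
  simp [coordPoly]

/-- A finitely generated ideal over a finite extension contracts to an ideal generated in bounded
degree, uniformly in the fields. -/
theorem comap_bound (N d r D : ℕ) : ∃ R : ℕ, ∀ (k k' : Type u) [Field k] [Field k'] [Algebra k k']
    [FiniteDimensional k k'], Module.finrank k k' ≤ d → ∀ G : Fin r → MvPolynomial (Fin N) k',
      (∀ j, (G j).totalDegree ≤ D) →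
        ∀ f : MvPolynomial (Fin N) k, map (algebraMap k k') f ∈ Ideal.span (Set.range G) →
          f ∈ Ideal.span {g : MvPolynomial (Fin N) k |
            map (algebraMap k k') g ∈ Ideal.span (Set.range G) ∧ g.totalDegree ≤ R} := by
  classical
  choose R hR using fun e : ℕ => relations_bound.{u} N e (r * e + 1) D
  refine ⟨(Finset.range (d + 1)).sup R, fun k k' _ _ _ _ hd G hG f hf => ?_⟩
  let e := Module.finrank k k'
  let b : Module.Basis (Fin e) k k' := Module.finBasis k k'
  let q : Fin (r * e + 1) → MvPolynomial (Fin N) k' :=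
    Fin.cons 1 fun s => C (b (finProdFinEquiv.symm s).2) * G (finProdFinEquiv.symm s).1
  have hq : ∀ j, (q j).totalDegree ≤ D := by
    refine Fin.cases ?_ fun s => ?_
    · simp [q]
    · simp only [q, Fin.cons_succ]
      refine (totalDegree_mul _ _).trans ?_
      rw [totalDegree_C, zero_add]
      exact hG _
  obtain ⟨a, ha⟩ := Ideal.mem_span_range_iff_exists_fun.mp hf
  let v : Fin (r * e + 1) → MvPolynomial (Fin N) k :=
    Fin.cons f fun s => - coordPoly b (finProdFinEquiv.symm s).2 (a (finProdFinEquiv.symm s).1)
  have hv : ∀ i, ∑ j, v j * coordPoly b i (q j) = 0 := by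
    rw [sum_mul_coordPoly_eq_zero_iff, Fin.sum_univ_succ]
    simp only [v, q, Fin.cons_zero, Fin.cons_succ, mul_one, map_neg, neg_mul, Finset.sum_neg_distrib]
    rw [← sub_eq_add_neg, sub_eq_zero, ← ha,
      Equiv.sum_comp finProdFinEquiv.symm (fun p : Fin r × Fin e =>
        map (algebraMap k k') (coordPoly b p.2 (a p.1)) * (C (b p.2) * G p.1)),
      Fintype.sum_prod_type]
    refine Finset.sum_congr rfl fun j _ => ?_
    conv_lhs => rw [← combPoly_coordPoly b (a j)]
    simp only [combPoly, Finset.sum_mul]
    exact Finset.sum_congr rfl fun l _ => by ring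
  have hmem := hR e k (fun j i => coordPoly b i (q j)) (fun j i => (totalDegree_coordPoly b i _).trans (hq j)) v hv
  have hproj : LinearMap.proj (R := MvPolynomial (Fin N) k) (φ := fun _ : Fin (r * e + 1) => MvPolynomial (Fin N) k) 0 v
      ∈ Submodule.map _ (Submodule.span (MvPolynomial (Fin N) k) _) := Submodule.mem_map_of_mem hmem
  rw [Submodule.map_span] at hproj
  refine Submodule.span_mono ?_ hproj
  rintro _ ⟨w, ⟨hw1, hw2⟩, rfl⟩
  refine ⟨?_, (hw1 0).trans (Finset.le_sup (Finset.mem_range.mpr (Nat.lt_succ_of_le hd)))⟩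
  rw [sum_mul_coordPoly_eq_zero_iff, Fin.sum_univ_succ] at hw2
  simp only [q, Fin.cons_zero, Fin.cons_succ, mul_one] at hw2
  show map (algebraMap k k') (w 0) ∈ _
  rw [eq_neg_of_add_eq_zero_left hw2]
  exact neg_mem (Ideal.sum_mem _ fun s _ => Ideal.mul_mem_left _ _
    (Ideal.mul_mem_left _ _ (Ideal.subset_span (Set.mem_range_self _))))

/-- Extension and contraction along a finite field extension is the identity on ideals. -/
theorem comap_map_eq (k k' : Type u) [Field k] [Field k'] [Algebra k k'] [FiniteDimensional k k']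
    {N : ℕ} {M : ℕ} (F : Fin M → MvPolynomial (Fin N) k) :
    (Ideal.span (Set.range fun i => map (algebraMap k k') (F i))).comap (map (algebraMap k k')) =
      Ideal.span (Set.range F) := by
  refine le_antisymm (fun f hf => ?_) ?_
  · rw [Ideal.mem_comap, Ideal.mem_span_range_iff_exists_fun] at hf
    obtain ⟨a, ha⟩ := hf
    let b := Module.finBasis k k'
    obtain ⟨i, hi⟩ : ∃ i, b.coord i 1 ≠ 0 := by
      by_contra hcon
      push_neg at hcon
      exact one_ne_zero (b.forall_coord_eq_zero_iff.mp hcon)
    have h1 : ∀ (p : MvPolynomial (Fin N) k'), ∀ (g : MvPolynomial (Fin N) k),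
        coordPoly b i (p * map (algebraMap k k') g) = coordPoly b i p * g := fun p g => by
      conv_lhs => rw [← combPoly_coordPoly b p]
      simp only [combPoly, Finset.sum_mul, mul_assoc, ← map_mul]
      exact coordPoly_combPoly b (fun l => coordPoly b l p * g) i
    have hadd : ∀ (p p' : MvPolynomial (Fin N) k'), coordPoly b i (p + p') = coordPoly b i p + coordPoly b i p' :=
      fun p p' => by ext e; simp [coeff_coordPoly]
    let c : MvPolynomial (Fin N) k' →+ MvPolynomial (Fin N) k := AddMonoidHom.mk' (coordPoly b i) hadd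
    have h2 := congrArg c ha
    rw [map_sum] at h2
    change ∑ j, coordPoly b i (a j * map (algebraMap k k') (F j)) = coordPoly b i (map (algebraMap k k') f) at h2
    have h3 : coordPoly b i (map (algebraMap k k') f) = C (b.coord i 1) * f := by
      ext e
      rw [coeff_coordPoly, coeff_map, coeff_C_mul, ← mul_one (algebraMap k k' (coeff e f)), ← Algebra.smul_def,
        map_smul, smul_eq_mul, mul_comm]
    rw [h3] at h2
    simp only [h1] at h2
    have h4 : f = C (b.coord i 1)⁻¹ * (C (b.coord i 1) * f) := by
      rw [← mul_assoc, ← C_mul, inv_mul_cancel₀ hi, C_1, one_mul]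
    rw [h4, ← h2]
    exact Ideal.mul_mem_left _ _ (Ideal.sum_mem _ fun j _ => Ideal.mul_mem_left _ _
      (Ideal.subset_span (Set.mem_range_self j)))
  · rw [Ideal.span_le]
    rintro _ ⟨j, rfl⟩
    exact Ideal.subset_span ⟨j, rfl⟩

end RadBoundLib
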