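import Groth.Agent.GISpreadLib.Main
import Groth.Agent.GenRedLib.Basic
import Groth.Agent.CohenLib.FSField
import Groth.Agent.S2451
import Mathlib

/-!
# Spreading out geometric reducedness

A finite type algebra over a Noetherian domain which embeds into a geometrically reduced algebra over
the fraction field has reduced fibres, after any field extension, over a nonempty open.
-/

set_option autoImplicit false
set_option linter.style.haveILetI false
universe u

open TensorProduct

namespace RadBoundLib

/-- Localizations of geometrically reduced algebras are geometrically reduced. -/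
theorem isGeometricallyReduced_localization (L A : Type u) [Field L] [CommRing A] [Algebra L A]
    [Algebra.IsGeometricallyReduced L A] (M : Submonoid A) (A' : Type u) [CommRing A'] [Algebra A A']
    [Algebra L A'] [IsScalarTower L A A'] [IsLocalization M A'] : Algebra.IsGeometricallyReduced L A' := by
  rw [Algebra.isGeometricallyReduced_field_iff]
  let K := AlgebraicClosure L
  haveI : IsReduced (K ⊗[L] A) := (Algebra.isGeometricallyReduced_field_iff L A).mp ‹_›
  letI : Algebra (K ⊗[L] A) (K ⊗[L] A') :=
    (Algebra.TensorProduct.map (AlgHom.id L K) (IsScalarTower.toAlgHom L A A')).toAlgebra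
  haveI : IsScalarTower K (K ⊗[L] A) (K ⊗[L] A') :=
    .of_algebraMap_eq <| by intro; simp [RingHom.algebraMap_toAlgebra]
  haveI := IsLocalization.tensorProduct_tensorProduct_right L K M A'
    (by ext; simp [RingHom.algebraMap_toAlgebra])
  let M' := M.map (Algebra.TensorProduct.includeRight (R := L) (A := K))
  exact isReduced_of_injective (IsLocalization.algEquiv M' (K ⊗[L] A') (Localization M'))
    (AlgEquiv.injective _)

variable {V : Type u} [CommRing V] [IsDomain V]

/-- The generic points of a reduced algebra with geometrically reduced generic fibre are smooth. -/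
theorem isSmoothAt_minimal (L : Type u) [Field L] [Algebra V L] [IsFractionRing V L]
    (B : Type u) [CommRing B] [Algebra V B] [IsReduced B]
    (A : Type u) [CommRing A] [Algebra L A] [Algebra V A] [IsScalarTower V L A]
    [Algebra.IsGeometricallyReduced L A] (ι : B →ₐ[V] A) (hι : Function.Injective ι)
    (P : Ideal B) [P.IsPrime] (hP : P ∈ minimalPrimes B) : Algebra.IsSmoothAt V P := by
  obtain ⟨Q, hQ, hQP⟩ := Ideal.exists_comap_eq_of_mem_minimalPrimes_of_injective (f := ι.toRingHom) hι P hP
  let K := Localization.AtPrime P
  haveI : IsReduced K := inferInstance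
  have hK : IsField K := by
    haveI : Ring.KrullDimLE 0 K := .of_isLocalization _ hP _
    exact Ring.KrullDimLE.isField_of_isReduced
  letI : Field K := hK.toField
  -- nonzero scalars are invertible in `K`
  have hunit : ∀ v : nonZeroDivisors V, IsUnit (algebraMap V K v) := fun v => by
    rw [IsScalarTower.algebraMap_apply V B K]
    refine IsLocalization.map_units K (⟨algebraMap V B v, fun hmem => ?_⟩ : P.primeCompl)
    rw [← hQP] at hmem
    change ι (algebraMap V B v) ∈ Q at hmem
    refine hQ.ne_top (Ideal.eq_top_of_isUnit_mem _ hmem ?_)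
    change IsUnit (ι (algebraMap V B v))
    rw [ι.commutes, IsScalarTower.algebraMap_apply V L A]
    exact (IsLocalization.map_units L v).map _
  letI : Algebra L K := (IsLocalization.lift (S := L) hunit).toAlgebra
  haveI : IsScalarTower V L K := IsScalarTower.of_algebraMap_eq fun v =>
    (IsLocalization.lift_eq (S := L) hunit v).symm
  let K' := Localization.AtPrime Q
  haveI : Algebra.IsGeometricallyReduced L K' := isGeometricallyReduced_localization L A Q.primeCompl K'
  let j : K →+* K' := Localization.localRingHom P Q ι.toRingHom hQP.symm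
  have hj : ∀ b : B, j (algebraMap B K b) = algebraMap A K' (ι b) := fun b =>
    Localization.localRingHom_to_map P Q ι.toRingHom hQP.symm b
  have hcomm : j.comp (algebraMap L K) = algebraMap L K' := by
    refine IsLocalization.ringHom_ext (nonZeroDivisors V) (RingHom.ext fun v => ?_)
    simp only [RingHom.comp_apply]
    rw [← IsScalarTower.algebraMap_apply V L K, IsScalarTower.algebraMap_apply V B K, hj, ι.commutes,
      ← IsScalarTower.algebraMap_apply V L K', ← IsScalarTower.algebraMap_apply V A K']
  let jL : K →ₐ[L] K' := { j with commutes' := fun l => RingHom.congr_fun hcomm l }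
  haveI : Algebra.IsGeometricallyReduced L K :=
    Algebra.IsGeometricallyReduced.of_injective jL (RingHom.injective j)
  haveI : Algebra.FormallySmooth L K := Groth.Agent.S2451.result.mpr inferInstance
  haveI : Algebra.FormallyEtale V L := Algebra.FormallyEtale.of_isLocalization (nonZeroDivisors V)
  exact Algebra.FormallySmooth.comp V L K

/-- Spreading out of geometric reducedness, finitely presented form over any domain. -/
theorem exists_isReduced_fibres_of_fp {V : Type u} [CommRing V] [IsDomain V]
    (L : Type u) [Field L] [Algebra V L] [IsFractionRing V L]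
    (B : Type u) [CommRing B] [Algebra V B] [Algebra.FinitePresentation V B]
    (A : Type u) [CommRing A] [IsNoetherianRing A] [Algebra L A] [Algebra V A] [IsScalarTower V L A]
    [Algebra.IsGeometricallyReduced L A] (ι : B →ₐ[V] A) (hι : Function.Injective ι) :
    ∃ g : V, g ≠ 0 ∧ ∀ (k : Type u) [Field k] [Algebra V k], algebraMap V k g ≠ 0 →
      IsReduced (B ⊗[V] k) := by
  classical
  haveI : IsReduced A := Algebra.isReduced_of_isGeometricallyReduced L
  haveI : IsReduced B := isReduced_of_injective ι hι
  obtain ⟨h, hsm, hmin⟩ : ∃ h : B, Algebra.Smooth V (Localization.Away h) ∧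
      ∀ P ∈ minimalPrimes B, h ∉ P := by
    obtain ⟨a, ha⟩ := (PrimeSpectrum.isClosed_iff_zeroLocus_ideal _).mp
      (Algebra.isOpen_smoothLocus (R := V) (A := B)).isClosed_compl
    have hfin : (minimalPrimes B).Finite := by
      refine ((minimalPrimes.finite_of_isNoetherianRing A).image (Ideal.comap ι.toRingHom)).subset ?_
      intro P hP
      obtain ⟨Q, hQ, hQP⟩ := Ideal.exists_minimalPrimes_comap_eq (I := (⊥ : Ideal A)) ι.toRingHom P
        (by rwa [show (⊥ : Ideal A).comap ι.toRingHom = ⊥ from (RingHom.injective_iff_ker_eq_bot _).mp hι])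
      exact ⟨Q, hQ, hQP⟩
    have hnot : ¬ ((a : Set B) ⊆ ⋃ P ∈ (hfin.toFinset : Set (Ideal B)), (P : Set B)) := by
      rw [Ideal.subset_union_prime ⊤ ⊤ (fun P hP _ _ => (Set.Finite.mem_toFinset hfin).mp hP |>.1.1)]
      rintro ⟨P, hP, hle⟩
      rw [Set.Finite.mem_toFinset] at hP
      haveI := hP.1.1
      have h1 : (⟨P, hP.1.1⟩ : PrimeSpectrum B) ∈ PrimeSpectrum.zeroLocus (a : Set B) := hle
      rw [← ha] at h1
      exact h1 (isSmoothAt_minimal L B A ι hι P hP)
    obtain ⟨h, hha, hh⟩ := Set.not_subset.mp hnot
    simp only [Set.Finite.coe_toFinset, Set.mem_iUnion, SetLike.mem_coe, not_exists] at hh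
    refine ⟨h, ?_, hh⟩
    rw [← Algebra.basicOpen_subset_smoothLocus_iff_smooth]
    intro x hx
    by_contra hns
    have h2 : x ∈ PrimeSpectrum.zeroLocus (a : Set B) := ha ▸ hns
    exact hx (h2 hha)
  have hreg : Function.Injective (LinearMap.mulLeft V h) := by
    rw [← LinearMap.ker_eq_bot, eq_bot_iff]
    intro b hb
    rw [Submodule.mem_bot]
    have hb' : b ∈ nilradical B := by
      rw [nilradical_eq_sInf, Ideal.mem_sInf]
      intro (P : Ideal B) (hP : P.IsPrime)

      obtain ⟨P', hP', hle⟩ := Ideal.exists_minimalPrimes_le (I := (⊥ : Ideal B)) (J := P) (bot_le)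
      refine hle ((hP'.1.1.mem_or_mem (show h * b ∈ P' from ?_)).resolve_left (hmin P' hP'))
      rw [show h * b = 0 from hb]
      exact zero_mem _
    exact IsReduced.eq_zero b (mem_nilradical.mp hb')
  obtain ⟨g, hg, hfree⟩ := FlatLib.gfree_of_finite (R := V) B (B ⧸ LinearMap.range (LinearMap.mulLeft B h))
  refine ⟨g, hg, fun k _ _ hk => ?_⟩
  let V' := Localization.Away g
  letI : Algebra V' k := (IsLocalization.Away.lift g (isUnit_iff_ne_zero.mpr hk)).toAlgebra
  haveI : IsScalarTower V V' k := IsScalarTower.of_algebraMap_eq fun r =>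
    (IsLocalization.Away.lift_eq g (isUnit_iff_ne_zero.mpr hk) r).symm
  haveI : Module.Flat V V' := IsLocalization.flat _ (Submonoid.powers g)
  haveI : Module.Free V' (V' ⊗[V] (B ⧸ LinearMap.range (LinearMap.mulLeft B h))) := hfree
  have hinj : Function.Injective ((LinearMap.mulLeft V h).lTensor k) :=
    GISpreadLib.injective_baseChange_of_free_quotient (R' := V') (LinearMap.mulLeft V h)
      ((LinearMap.range (LinearMap.mulLeft B h)).mkQ.restrictScalars V) hreg
      (fun x => by
        rw [LinearMap.restrictScalars_apply, Submodule.mkQ_apply, Submodule.Quotient.mk_eq_zero]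
        rfl)
      (Submodule.mkQ_surjective _) k
  have hnzd := GISpreadLib.tmul_one_mem_nonZeroDivisors h hinj
  haveI : Algebra.Smooth V (Localization.Away h) := hsm
  haveI : IsReduced (Localization.Away h ⊗[V] k) :=
    haveI : IsReduced (k ⊗[V] Localization.Away h) := isReduced_smooth k _
    isReduced_of_injective (Algebra.TensorProduct.comm V (Localization.Away h) k) (AlgEquiv.injective _)
  refine ⟨fun z hz => ?_⟩
  obtain ⟨n, hn⟩ := hz
  have h0 : GISpreadLib.locMap V k B (Localization.Away h) z = 0 :=
    IsReduced.eq_zero _ ⟨n, by rw [← map_pow, hn, map_zero]⟩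
  obtain ⟨m, hm⟩ := GISpreadLib.locMap_eq_zero k h z h0
  exact (mem_nonZeroDivisors_iff.mp (pow_mem hnzd m)).1 _ hm

/-- Spreading out of geometric reducedness. -/
theorem exists_isReduced_fibres [IsNoetherianRing V] (L : Type u) [Field L] [Algebra V L] [IsFractionRing V L]
    (B : Type u) [CommRing B] [Algebra V B] [Algebra.FiniteType V B]
    (A : Type u) [CommRing A] [IsNoetherianRing A] [Algebra L A] [Algebra V A] [IsScalarTower V L A]
    [Algebra.IsGeometricallyReduced L A] (ι : B →ₐ[V] A) (hι : Function.Injective ι) :
    ∃ g : V, g ≠ 0 ∧ ∀ (k : Type u) [Field k] [Algebra V k], algebraMap V k g ≠ 0 →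
      IsReduced (B ⊗[V] k) :=
  haveI : Algebra.FinitePresentation V B := Algebra.FinitePresentation.of_finiteType.mp inferInstance
  exists_isReduced_fibres_of_fp L B A ι hι

end RadBoundLib
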