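import Groth.Agent.RadBoundLib.Descent
import Groth.Agent.RadBoundLib.Spread
import Groth.Agent.GeomRedFieldLib.Algebra

/-!
# Degree bounds for radicals, uniform in the field
-/

set_option autoImplicit false
set_option linter.style.haveILetI false
universe u

open MvPolynomial TensorProduct

namespace RadBoundLib

variable {N : ℕ}

theorem map_span_range {A B : Type u} [CommRing A] [CommRing B] {n : ℕ} (φ : A →+* B)
    (F : Fin n → MvPolynomial (Fin N) A) :
    (Ideal.span (Set.range F)).map (MvPolynomial.map φ) = Ideal.span (Set.range fun i => MvPolynomial.map φ (F i)) := by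
  rw [Ideal.map_span, ← Set.range_comp]
  rfl

/-- The radical of an extended ideal has geometrically reduced quotient when the reduction of the
base change does. -/
theorem geometricallyReduced_radical_quotient (K L : Type u) [Field K] [Field L] [Algebra K L]
    (A0 : Type u) [CommRing A0] [Algebra K A0] (π : MvPolynomial (Fin N) K →ₐ[K] A0) (hπ : Function.Surjective π)
    (I : Ideal (MvPolynomial (Fin N) K)) (hI : RingHom.ker π = I)
    [Algebra.IsGeometricallyReduced L ((L ⊗[K] A0) ⧸ nilradical (L ⊗[K] A0))] :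
    Algebra.IsGeometricallyReduced L
      (MvPolynomial (Fin N) L ⧸ (I.map (MvPolynomial.map (algebraMap K L))).radical) := by
  let IL := I.map (MvPolynomial.map (algebraMap K L))
  let ψ : MvPolynomial (Fin N) L →ₐ[L] L ⊗[K] A0 := aeval fun i => (1 : L) ⊗ₜ[K] π (X i)
  have hψmap : ψ.toRingHom.comp (MvPolynomial.map (algebraMap K L)) =
      (Algebra.TensorProduct.includeRight (R := K) (A := L) (B := A0)).toRingHom.comp π.toRingHom := by
    refine MvPolynomial.ringHom_ext (fun r => ?_) (fun i => ?_)
    · simp only [RingHom.comp_apply, map_C, AlgHom.toRingHom_eq_coe, RingHom.coe_coe, ψ, aeval_C]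
      rw [← IsScalarTower.algebraMap_apply, MvPolynomial.algHom_C]
      exact ((Algebra.TensorProduct.includeRight (R := K) (A := L) (B := A0)).commutes r).symm
    · simp [ψ]
  have hker : IL ≤ RingHom.ker ψ := by
    refine Ideal.map_le_iff_le_comap.mpr fun a ha => ?_
    have := RingHom.congr_fun hψmap a
    simp only [RingHom.comp_apply, AlgHom.toRingHom_eq_coe, RingHom.coe_coe] at this
    rw [← hI, RingHom.mem_ker] at ha
    rw [Ideal.mem_comap, RingHom.mem_ker, this, ha, map_zero]
  let β : MvPolynomial (Fin N) K →ₐ[K] MvPolynomial (Fin N) L ⧸ IL :=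
    (Ideal.Quotient.mkₐ K IL).comp (mapAlgHom (Algebra.ofId K L))
  let base : A0 →ₐ[K] MvPolynomial (Fin N) L ⧸ IL := AlgHom.liftOfSurjective π hπ β (by
    intro a ha
    replace ha : a ∈ I := hI ▸ (RingHom.mem_ker.mpr (RingHom.mem_ker.mp ha : π a = 0) : a ∈ RingHom.ker π)
    exact Ideal.Quotient.eq_zero_iff_mem.mpr (Ideal.mem_map_of_mem (MvPolynomial.map (algebraMap K L)) ha))
  have hbase : ∀ a, base (π a) = β a := fun a => by
    show AlgHom.liftOfSurjective π hπ β _ (π a) = β a
    rw [← AlgHom.comp_apply, AlgHom.liftOfSurjective_comp]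
  let θ : L ⊗[K] A0 →ₐ[L] MvPolynomial (Fin N) L ⧸ IL :=
    Algebra.TensorProduct.lift (Algebra.ofId L _) base (fun _ _ => Commute.all _ _)
  have hθ : ∀ q, θ (ψ q) = Ideal.Quotient.mk IL q := by
    have : θ.comp ψ = Ideal.Quotient.mkₐ L IL := by
      refine MvPolynomial.algHom_ext fun i => ?_
      rw [AlgHom.comp_apply]
      simp only [ψ, aeval_X]
      rw [Algebra.TensorProduct.lift_tmul, map_one, one_mul, hbase]
      show Ideal.Quotient.mk IL (MvPolynomial.map (algebraMap K L) (X i)) = Ideal.Quotient.mk IL (X i)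
      rw [map_X]
    exact AlgHom.congr_fun this
  let f : (MvPolynomial (Fin N) L ⧸ IL.radical) →ₐ[L] (L ⊗[K] A0) ⧸ nilradical (L ⊗[K] A0) :=
    Ideal.Quotient.liftₐ _ ((Ideal.Quotient.mkₐ L (nilradical (L ⊗[K] A0))).comp ψ) (fun q hq => by
      obtain ⟨n, hn⟩ := hq
      exact Ideal.Quotient.eq_zero_iff_mem.mpr ⟨n, by rw [← map_pow]; exact hker hn⟩)
  refine Algebra.IsGeometricallyReduced.of_injective f ?_
  rw [injective_iff_map_eq_zero]
  intro q hq
  obtain ⟨q, rfl⟩ := Ideal.Quotient.mk_surjective q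
  obtain ⟨n, hn⟩ := mem_nilradical.mp (Ideal.Quotient.eq_zero_iff_mem.mp
    (show Ideal.Quotient.mk (nilradical (L ⊗[K] A0)) (ψ q) = 0 from hq))
  refine Ideal.Quotient.eq_zero_iff_mem.mpr ⟨n, ?_⟩
  rw [← Ideal.Quotient.eq_zero_iff_mem, map_pow, ← hθ, ← map_pow, ← map_pow, map_pow ψ, hn, map_zero]

/-- Over a large finite extension of the fraction field the radical has geometrically reduced quotient. -/
theorem exists_geometricallyReduced_radical (K : Type u) [Field K] {M : ℕ}
    (F : Fin M → MvPolynomial (Fin N) K) :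
    ∃ (L : Type u) (_ : Field L) (_ : Algebra K L), FiniteDimensional K L ∧
      Algebra.IsGeometricallyReduced L (MvPolynomial (Fin N) L ⧸
        (Ideal.span (Set.range fun i => MvPolynomial.map (algebraMap K L) (F i))).radical) := by
  obtain ⟨L, _, _, hfd, -, hgr⟩ := GeomRedFieldLib.exists_finite_purelyInseparable K
    (fun _ : PUnit.{1} ↦ MvPolynomial (Fin N) K ⧸ Ideal.span (Set.range F))
  refine ⟨L, inferInstance, inferInstance, hfd, ?_⟩
  rw [← map_span_range]
  haveI := hgr PUnit.unit
  exact geometricallyReduced_radical_quotient K L (MvPolynomial (Fin N) K ⧸ Ideal.span (Set.range F))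
    (Ideal.Quotient.mkₐ K _) (Ideal.Quotient.mkₐ_surjective K _) _ (Ideal.Quotient.mkₐ_ker K _)

/-- A field valued point of the base lifts to a finite algebra with a bound on the degree. -/
theorem exists_field_lift {W V : Type u} [CommRing W] [CommRing V] [Algebra W V] [FaithfulSMul W V]
    {d : ℕ} (v : Fin d → V) (hv : Submodule.span W (Set.range v) = ⊤)
    (k : Type u) [Field k] (φ : W →+* k) :
    ∃ (k' : Type u) (_ : Field k') (_ : Algebra k k') (ψ : V →+* k'),
      ψ.comp (algebraMap W V) = (algebraMap k k').comp φ ∧ FiniteDimensional k k' ∧ Module.finrank k k' ≤ d := by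
  haveI : (RingHom.ker φ).IsPrime := RingHom.ker_isPrime φ
  haveI : Module.Finite W V := ⟨⟨(Set.finite_range v).toFinset, by rw [Set.Finite.coe_toFinset, hv]⟩⟩
  obtain ⟨q, hq, hqp⟩ : ∃ q : Ideal V, q.IsPrime ∧ q.comap (algebraMap W V) = RingHom.ker φ := by
    obtain ⟨q, -, hq, hqp⟩ := Ideal.exists_ideal_over_prime_of_isIntegral (R := W) (S := V) (RingHom.ker φ) ⊥
      (fun w hw => by
        rw [Ideal.mem_comap, Ideal.mem_bot, map_eq_zero_iff _ (FaithfulSMul.algebraMap_injective W V)] at hw
        rw [hw]; exact zero_mem _)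
    exact ⟨q, hq, hqp⟩
  let Kb := AlgebraicClosure k
  let Wp := W ⧸ RingHom.ker φ
  letI : Algebra Wp (V ⧸ q) := (Ideal.quotientMap q (algebraMap W V) hqp.ge).toAlgebra
  letI : Algebra Wp Kb := ((algebraMap k Kb).comp (RingHom.kerLift φ)).toAlgebra
  haveI : IsScalarTower W Wp (V ⧸ q) := IsScalarTower.of_algebraMap_eq fun w => rfl
  haveI : Module.IsTorsionFree Wp Kb := by
    have : FaithfulSMul Wp Kb := (faithfulSMul_iff_algebraMap_injective _ _).mpr
      ((algebraMap k Kb).injective.comp (RingHom.kerLift_injective φ))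
    infer_instance
  haveI : FaithfulSMul Wp (V ⧸ q) := (faithfulSMul_iff_algebraMap_injective _ _).mpr
    (Ideal.quotientMap_injective' hqp.le)
  haveI : Algebra.IsIntegral Wp (V ⧸ q) := by
    haveI : Algebra.IsIntegral W V := inferInstance
    refine ⟨fun x => ?_⟩
    obtain ⟨x, rfl⟩ := Ideal.Quotient.mk_surjective x
    exact ((Algebra.IsIntegral.isIntegral (R := W) x).map (Ideal.Quotient.mkₐ W q)).tower_top
  let e : (V ⧸ q) →ₐ[Wp] Kb := IsAlgClosed.lift
  let ψ₀ : V →+* Kb := e.toRingHom.comp (Ideal.Quotient.mk q)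
  have hψ₀ : ψ₀.comp (algebraMap W V) = (algebraMap k Kb).comp φ := RingHom.ext fun w => by
    show e (algebraMap Wp (V ⧸ q) (Ideal.Quotient.mk _ w)) = _
    rw [e.commutes]
    rfl
  let S : Submodule k Kb := Submodule.span k (Set.range fun i => ψ₀ (v i))
  have hmem : ∀ x : V, ψ₀ x ∈ S := fun x => by
    have hx : x ∈ Submodule.span W (Set.range v) := hv ▸ Submodule.mem_top
    induction hx using Submodule.span_induction with
    | mem x hx =>
      obtain ⟨i, rfl⟩ := hx
      exact Submodule.subset_span ⟨i, rfl⟩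
    | zero => rw [map_zero]; exact zero_mem _
    | add a b _ _ ha hb => rw [map_add]; exact add_mem ha hb
    | smul w a _ ha =>
      have : ψ₀ (w • a) = φ w • ψ₀ a := by
        rw [Algebra.smul_def, map_mul, Algebra.smul_def]
        exact congrArg (· * _) (RingHom.congr_fun hψ₀ w)
      rw [this]
      exact Submodule.smul_mem _ _ ha
  have hmul : ∀ x y, x ∈ S → y ∈ S → x * y ∈ S := by
    intro x y hx hy
    have := Submodule.mul_mem_mul hx hy
    rw [Submodule.span_mul_span] at this
    refine Submodule.span_le.mpr ?_ this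
    rintro _ ⟨_, ⟨i, rfl⟩, _, ⟨j, rfl⟩, rfl⟩
    show ψ₀ (v i) * ψ₀ (v j) ∈ S
    rw [← map_mul]
    exact hmem _
  let E : Subalgebra k Kb := S.toSubalgebra (map_one ψ₀ ▸ hmem 1) hmul
  haveI : Module.Finite k E := Module.Finite.span_of_finite k (Set.finite_range _)
  haveI : Algebra.IsAlgebraic k E := inferInstance
  letI : Field E := (Subalgebra.isField_of_algebraic E).toField
  refine ⟨E, inferInstance, inferInstance, ψ₀.codRestrict E hmem, RingHom.ext fun w => Subtype.ext ?_,
    inferInstance, ?_⟩
  · exact RingHom.congr_fun hψ₀ w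
  · exact (finrank_range_le_card (R := k) fun i => ψ₀ (v i)).trans (Fintype.card_fin d).le

/-- A finite extension of the fraction field is the fraction field of a finite algebra. -/
theorem exists_finite_model (W : Type u) [CommRing W] [IsDomain W]
    (L : Type u) [Field L] [Algebra (FractionRing W) L] [FiniteDimensional (FractionRing W) L]
    [Algebra W L] [IsScalarTower W (FractionRing W) L] :
    ∃ V : Subalgebra W L, Module.Finite W V ∧ IsFractionRing V L := by
  classical
  let K := FractionRing W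
  let b := Module.finBasis K L
  haveI : Algebra.IsAlgebraic W L := (IsFractionRing.comap_isAlgebraic_iff (A := W) (K := K)).mpr inferInstance
  obtain ⟨y, hy, hint⟩ := Algebra.IsAlgebraic.exists_integral_multiples W (Finset.univ.image b)
  let s : Finset L := Finset.univ.image fun i => y • b i
  let V := Algebra.adjoin W (s : Set L)
  refine ⟨V, ⟨(Submodule.fg_top _).mpr (fg_adjoin_of_finite s.finite_toSet fun x hx => ?_)⟩, ?_⟩
  · simp only [s, Finset.coe_image, Set.mem_image] at hx
    obtain ⟨i, -, rfl⟩ := hx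
    exact hint _ (Finset.mem_image_of_mem _ (Finset.mem_univ i))
  refine IsFractionRing.of_field V L fun z => ?_
  obtain ⟨t, ht⟩ := IsLocalization.exist_integer_multiples_of_finite (nonZeroDivisors W) fun i => b.repr z i
  choose a ha using ht
  refine ⟨⟨∑ i, a i • (y • b i), Subalgebra.sum_mem _ fun i _ => Subalgebra.smul_mem _
      (Algebra.subset_adjoin (Finset.mem_image_of_mem _ (Finset.mem_univ i))) _⟩,
    algebraMap W V ((t : W) * y), ?_⟩
  have hne : algebraMap W L ((t : W) * y) ≠ 0 := by
    rw [IsScalarTower.algebraMap_apply W K L, map_ne_zero, ne_eq, IsFractionRing.to_map_eq_zero_iff]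
    exact mul_ne_zero (nonZeroDivisors.ne_zero t.2) hy
  show z = (∑ i, a i • (y • b i)) / algebraMap W L ((t : W) * y)
  rw [eq_div_iff hne]
  symm
  conv_rhs => rw [← b.sum_repr z, Finset.sum_mul]
  refine Finset.sum_congr rfl fun i _ => ?_
  have h2 : algebraMap W L (a i) = algebraMap W L (t : W) * algebraMap K L (b.repr z i) := by
    rw [IsScalarTower.algebraMap_apply W K L, ha, Algebra.smul_def, map_mul, ← IsScalarTower.algebraMap_apply]
  rw [Algebra.smul_def, Algebra.smul_def, Algebra.smul_def, h2, map_mul]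
  ring

/-- Reducedness of a fibre says that the extended ideal is radical. -/
theorem isRadical_map_of_surjective {V k' B : Type u} [CommRing V] [CommRing k'] [Algebra V k'] [CommRing B]
    [Algebra V B] (π : MvPolynomial (Fin N) V →ₐ[V] B) (hπ : Function.Surjective π)
    (J' : Ideal (MvPolynomial (Fin N) V)) (hJ : RingHom.ker π = J') [IsReduced (B ⊗[V] k')] :
    (J'.map (MvPolynomial.map (algebraMap V k'))).IsRadical := by
  let Θ : MvPolynomial (Fin N) k' →+* B ⊗[V] k' :=
    eval₂Hom (Algebra.TensorProduct.includeRight (R := V) (A := B) (B := k')).toRingHom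
      fun i => π (X i) ⊗ₜ[V] (1 : k')
  have hΘ : Θ.comp (MvPolynomial.map (algebraMap V k')) =
      (Algebra.TensorProduct.includeLeftRingHom (R := V) (A := B) (B := k')).comp
        π.toRingHom := by
    refine MvPolynomial.ringHom_ext (fun a => ?_) (fun i => ?_)
    · simp only [RingHom.comp_apply, map_C, Θ, eval₂Hom_C]
      show (1 : B) ⊗ₜ[V] algebraMap V k' a = π (C a) ⊗ₜ[V] (1 : k')
      rw [show π (C a) = algebraMap V B a from MvPolynomial.algHom_C π a,
        Algebra.algebraMap_eq_smul_one, Algebra.algebraMap_eq_smul_one, TensorProduct.smul_tmul]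
    · simp only [RingHom.comp_apply, map_X, Θ, eval₂Hom_X']
      rfl
  let Jk := J'.map (MvPolynomial.map (algebraMap V k'))
  have hkerΘ : Jk ≤ RingHom.ker Θ := by
    refine Ideal.map_le_iff_le_comap.mpr fun a ha => ?_
    rw [← hJ, RingHom.mem_ker] at ha
    rw [Ideal.mem_comap, RingHom.mem_ker, ← RingHom.comp_apply, hΘ, RingHom.comp_apply, AlgHom.toRingHom_eq_coe,
      RingHom.coe_coe, ha, map_zero]
  let lam0 : B →ₐ[V] MvPolynomial (Fin N) k' ⧸ Jk :=
    AlgHom.liftOfSurjective π hπ ((Ideal.Quotient.mkₐ V Jk).comp (mapAlgHom (Algebra.ofId V k'))) (by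
      intro a ha
      replace ha : a ∈ J' := hJ ▸ (RingHom.mem_ker.mpr (RingHom.mem_ker.mp ha : π a = 0) : a ∈ RingHom.ker π)
      exact Ideal.Quotient.eq_zero_iff_mem.mpr (Ideal.mem_map_of_mem (MvPolynomial.map (algebraMap V k')) ha))
  let Λ : B ⊗[V] k' →ₐ[V] MvPolynomial (Fin N) k' ⧸ Jk :=
    Algebra.TensorProduct.productMap lam0 (IsScalarTower.toAlgHom V k' _)
  have hΛ : Λ.toRingHom.comp Θ = Ideal.Quotient.mk Jk := by
    refine MvPolynomial.ringHom_ext (fun a => ?_) (fun i => ?_)
    · simp only [RingHom.comp_apply, Θ, eval₂Hom_C]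
      show Λ ((1 : B) ⊗ₜ[V] a) = _
      rw [Algebra.TensorProduct.productMap_apply_tmul, map_one, one_mul]
      rfl
    · simp only [RingHom.comp_apply, Θ, eval₂Hom_X']
      show Λ (π (X i) ⊗ₜ[V] (1 : k')) = _
      rw [Algebra.TensorProduct.productMap_apply_tmul, map_one, mul_one]
      rw [← AlgHom.comp_apply, AlgHom.liftOfSurjective_comp]
      show Ideal.Quotient.mk Jk (MvPolynomial.map (algebraMap V k') (X i)) = _
      rw [map_X]
  intro q hq
  obtain ⟨m, hm⟩ := hq
  have h0 : Θ q = 0 := IsReduced.eq_zero _ ⟨m, by rw [← map_pow]; exact hkerΘ hm⟩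
  show q ∈ Jk
  rw [← Ideal.Quotient.eq_zero_iff_mem, ← hΛ, RingHom.comp_apply, h0, map_zero]

/-- Near the generic point the radical is, after a bounded field extension, generated in bounded degree. -/
theorem radical_generic {W : Type u} [CommRing W] [IsDomain W] [IsNoetherianRing W] {M : ℕ}
    (F : Fin M → MvPolynomial (Fin N) W) :
    ∃ f : W, f ≠ 0 ∧ ∃ r d D : ℕ, ∀ (k : Type u) [Field k] (φ : W →+* k), φ f ≠ 0 →
      ∃ (k' : Type u) (_ : Field k') (_ : Algebra k k') (_ : FiniteDimensional k k')
        (G : Fin r → MvPolynomial (Fin N) k'), Module.finrank k k' ≤ d ∧ (∀ j, (G j).totalDegree ≤ D) ∧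
        Ideal.span (Set.range G) =
          (Ideal.span (Set.range fun i => MvPolynomial.map ((algebraMap k k').comp φ) (F i))).radical := by
  classical
  let K := FractionRing W
  obtain ⟨L, _, _, hfd, hgr⟩ := exists_geometricallyReduced_radical K fun i => MvPolynomial.map (algebraMap W K) (F i)
  letI : Algebra W L := ((algebraMap K L).comp (algebraMap W K)).toAlgebra
  haveI : IsScalarTower W K L := IsScalarTower.of_algebraMap_eq fun _ => rfl
  obtain ⟨V, hVfin, hVfr⟩ := exists_finite_model W L
  haveI : IsNoetherianRing V := IsNoetherianRing.of_finite W V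
  haveI : FaithfulSMul W V := (faithfulSMul_iff_algebraMap_injective W V).mpr fun a b hab =>
    IsFractionRing.injective W K ((algebraMap K L).injective
      (show algebraMap W L a = algebraMap W L b from congrArg Subtype.val hab))
  let FV : Fin M → MvPolynomial (Fin N) V := fun i => MvPolynomial.map (algebraMap W V) (F i)
  let IV := Ideal.span (Set.range FV)
  let μ : MvPolynomial (Fin N) V →+* MvPolynomial (Fin N) L := MvPolynomial.map (algebraMap V L)
  let J : Ideal (MvPolynomial (Fin N) L) := (IV.map μ).radical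
  haveI hgr' : Algebra.IsGeometricallyReduced L (MvPolynomial (Fin N) L ⧸ J) := by
    have : IV.map μ = Ideal.span (Set.range fun i =>
        MvPolynomial.map (algebraMap K L) (MvPolynomial.map (algebraMap W K) (F i))) := by
      rw [map_span_range]
      simp only [FV, MvPolynomial.map_map, ← IsScalarTower.algebraMap_eq]
    show Algebra.IsGeometricallyReduced L (MvPolynomial (Fin N) L ⧸ (IV.map μ).radical)
    rw [this]
    exact hgr
  let J' : Ideal (MvPolynomial (Fin N) V) := J.comap μ
  obtain ⟨r, G, hG⟩ := Submodule.fg_iff_exists_fin_generating_family.mp (IsNoetherian.noetherian J')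
  -- powers of the generators lie in the ideal after clearing denominators
  have hpow : ∀ j, ∃ (n : ℕ) (c : V), c ≠ 0 ∧ C c * G j ^ n ∈ IV := fun j => by
    have hmem : G j ∈ J' := hG ▸ Submodule.subset_span (Set.mem_range_self j)
    obtain ⟨n, hn⟩ := hmem
    rw [← map_pow] at hn
    letI := MvPolynomial.algebraMvPolynomial (R := V) (S := L) (σ := Fin N)
    have hμ : μ = algebraMap (MvPolynomial (Fin N) V) (MvPolynomial (Fin N) L) := rfl
    rw [hμ, IsLocalization.mem_map_algebraMap_iff ((nonZeroDivisors V).map (C (σ := Fin N)))] at hn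
    obtain ⟨⟨⟨a, ha⟩, ⟨_, c, hc, rfl⟩⟩, he⟩ := hn
    refine ⟨n, c, nonZeroDivisors.ne_zero hc, ?_⟩
    have : μ (C c * G j ^ n) = μ a := by
      rw [map_mul, mul_comm]
      exact he
    rw [MvPolynomial.map_injective _ (IsFractionRing.injective V L) this]
    exact ha
  choose n c hc hcG using hpow
  -- reducedness of the fibres of the radical
  let B := MvPolynomial (Fin N) V ⧸ J'
  let ι : B →ₐ[V] MvPolynomial (Fin N) L ⧸ J :=
    Ideal.Quotient.liftₐ J' ((Ideal.Quotient.mkₐ V J).comp (mapAlgHom (Algebra.ofId V L)))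
      (fun a ha => Ideal.Quotient.eq_zero_iff_mem.mpr ha)
  have hι : Function.Injective ι := by
    rw [injective_iff_map_eq_zero]
    intro a ha
    obtain ⟨a, rfl⟩ := Ideal.Quotient.mk_surjective a
    have hmem : μ a ∈ J := Ideal.Quotient.eq_zero_iff_mem.mp ha
    exact Ideal.Quotient.eq_zero_iff_mem.mpr hmem
  obtain ⟨g, hg, hgred⟩ := exists_isReduced_fibres (V := V) L B (MvPolynomial (Fin N) L ⧸ J) ι hι
  obtain ⟨d, v, hv⟩ := Module.Finite.exists_fin (R := W) (M := V)
  obtain ⟨f, hf, hdvd⟩ := ((Algebra.IsIntegral.isIntegral (R := W) (g * ∏ j, c j)).isAlgebraic).exists_nonzero_dvd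
    (mem_nonZeroDivisors_of_ne_zero (mul_ne_zero hg (Finset.prod_ne_zero_iff.mpr fun j _ => hc j)))
  refine ⟨f, hf, r, d, Finset.univ.sup fun j => (G j).totalDegree, fun k _ φ hφ => ?_⟩
  obtain ⟨k', _, _, ψ, hψ, hfd', hdeg⟩ := exists_field_lift v hv k φ
  have hne : ψ (g * ∏ j, c j) ≠ 0 := by
    intro h0
    have h1 : ψ (algebraMap W V f) = 0 := by
      obtain ⟨e, he⟩ := hdvd
      rw [he, map_mul, h0, zero_mul]
    rw [← RingHom.comp_apply, hψ, RingHom.comp_apply, map_eq_zero_iff _ (algebraMap k k').injective] at h1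
    exact hφ h1
  rw [map_mul, mul_ne_zero_iff, map_prod, Finset.prod_ne_zero_iff] at hne
  obtain ⟨hgψ, hcψ⟩ := hne
  let G' : Fin r → MvPolynomial (Fin N) k' := fun j => MvPolynomial.map ψ (G j)
  refine ⟨k', inferInstance, inferInstance, hfd', G', hdeg,
    fun j => (map_totalDegree_le ψ _).trans (Finset.le_sup (f := fun j => (G j).totalDegree) (Finset.mem_univ j)), ?_⟩
  have hFV : (fun i => MvPolynomial.map ((algebraMap k k').comp φ) (F i)) = fun i => MvPolynomial.map ψ (FV i) := by
    simp only [FV, MvPolynomial.map_map, hψ]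
  rw [hFV, ← map_span_range ψ FV]
  have hJk : (Ideal.span (Set.range G) : Ideal (MvPolynomial (Fin N) V)).map (MvPolynomial.map ψ) =
      Ideal.span (Set.range G') := map_span_range ψ G
  apply le_antisymm
  · rw [Ideal.span_le]
    rintro _ ⟨j, rfl⟩
    refine ⟨n j, ?_⟩
    have h1 := Ideal.mem_map_of_mem (MvPolynomial.map ψ) (hcG j)
    rw [map_mul, map_C, map_pow] at h1
    exact ((Ideal.mul_unit_mem_iff_mem _ ((isUnit_iff_ne_zero.mpr (hcψ j (Finset.mem_univ j))).map C)).mp
      (by rwa [mul_comm]))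
  · -- the radical is contained in the reduced ideal
    have hle : IV ≤ J' := Ideal.map_le_iff_le_comap.mp Ideal.le_radical
    have hle' : IV.map (MvPolynomial.map ψ) ≤ Ideal.span (Set.range G') := by
      rw [← hJk]
      refine Ideal.map_mono (hle.trans ?_)
      rw [← hG]
    letI : Algebra V k' := ψ.toAlgebra
    have hrad : (J'.map (MvPolynomial.map (algebraMap V k'))).IsRadical :=
      @isRadical_map_of_surjective N V k' B _ _ _ _ _ (Ideal.Quotient.mkₐ V J') (Ideal.Quotient.mkₐ_surjective V J') J' (Ideal.Quotient.mkₐ_ker V J') (hgred k' hgψ)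
    have hspan : J'.map (MvPolynomial.map (algebraMap V k')) = Ideal.span (Set.range G') := by
      rw [← hG]; exact hJk
    rw [hspan] at hrad
    exact hrad.radical_le_iff.mpr hle'

/-- The radical of an ideal generated in bounded degree is generated in bounded degree, uniformly in
the field. -/
theorem radical_bound (N M m : ℕ) : ∃ R : ℕ, ∀ (k : Type u) [Field k] (F : Fin M → MvPolynomial (Fin N) k),
    (∀ i, (F i).totalDegree ≤ m) →
      (Ideal.span (Set.range F)).radical ≤
        Ideal.span {g | g ∈ (Ideal.span (Set.range F)).radical ∧ g.totalDegree ≤ R} := by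
  classical
  let U := MvPolynomial (Fin M × Exp N m) (ULift.{u} ℤ)
  haveI : IsNoetherianRing (ULift.{u} ℤ) :=
    isNoetherianRing_of_surjective ℤ (ULift.{u} ℤ) (ULift.ringEquiv (R := ℤ)).symm.toRingHom
      (ULift.ringEquiv (R := ℤ)).symm.surjective
  haveI : IsNoetherianRing U := MvPolynomial.isNoetherianRing
  let H : Fin M → MvPolynomial (Fin N) U := fun i => ∑ e : Exp N m, monomial e.toFinsupp (X (i, e))
  let I : ∀ (k : Type u) [Field k], (U →+* k) → Ideal (MvPolynomial (Fin N) k) := fun k _ φ =>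
    Ideal.span (Set.range fun i => MvPolynomial.map φ (H i))
  obtain ⟨R, hR⟩ := exists_bound (U := U)
    (fun k _ φ R => (I k φ).radical ≤ Ideal.span {g | g ∈ (I k φ).radical ∧ g.totalDegree ≤ R})
    (fun k _ φ R R' hle hP => hP.trans (Ideal.span_mono fun g hg => ⟨hg.1, hg.2.trans hle⟩))
    (fun p _ => by
      obtain ⟨f, hf, r, d, D, hrad⟩ := radical_generic (N := N) (W := U ⧸ p) fun i => MvPolynomial.map (Ideal.Quotient.mk p) (H i)
      obtain ⟨R, hR⟩ := comap_bound.{u} N d r D
      obtain ⟨f, rfl⟩ := Ideal.Quotient.mk_surjective f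
      refine ⟨f, fun h => hf (Ideal.Quotient.eq_zero_iff_mem.mpr h), R, fun k _ φ hp hφf => ?_⟩
      let ψ : U ⧸ p →+* k := Ideal.Quotient.lift p φ hp
      have hψ : ψ.comp (Ideal.Quotient.mk p) = φ := Ideal.Quotient.lift_comp_mk _ _ _
      obtain ⟨k', _, _, _, G, hd, hG, hGspan⟩ := hrad k ψ (by simpa [ψ] using hφf)
      have hkey : (Ideal.span (Set.range G)).comap (MvPolynomial.map (algebraMap k k')) = (I k φ).radical := by
        rw [hGspan, Ideal.comap_radical]
        congr 1
        refine Eq.trans ?_ (comap_map_eq k k' (fun i => MvPolynomial.map φ (H i)))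
        simp only [MvPolynomial.map_map, RingHom.comp_assoc, hψ]
      intro g hg
      rw [← hkey] at hg
      refine Ideal.span_mono ?_ (hR k k' hd G hG g hg)
      rintro h ⟨h1, h2⟩
      exact ⟨hkey ▸ h1, h2⟩)
  refine ⟨R, fun k _ F hF => ?_⟩
  let φ : U →+* k := eval₂Hom ((Int.castRingHom k).comp ULift.ringEquiv.toRingHom)
    fun x => coeff x.2.toFinsupp (F x.1)
  have hH : ∀ i, MvPolynomial.map φ (H i) = F i := fun i => by
    conv_rhs => rw [eq_sum_exp (F i) (hF i)]
    rw [map_sum]
    refine Finset.sum_congr rfl fun e _ => ?_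
    rw [map_monomial]
    exact congrArg _ (eval₂Hom_X' _ _ _)
  have h1 := hR k φ
  simp only [I, hH] at h1
  exact h1

/-- An ideal generated in degree at most `m` is generated by boundedly many elements of degree at most `m`. -/
theorem exists_bounded_generators (N m : ℕ) (k : Type u) [Field k] (S : Set (MvPolynomial (Fin N) k))
    (hS : ∀ p ∈ S, p.totalDegree ≤ m) :
    ∃ M ≤ Fintype.card (Exp N m), ∃ F : Fin M → MvPolynomial (Fin N) k,
      (∀ i, (F i).totalDegree ≤ m) ∧ Ideal.span (Set.range F) = Ideal.span S := by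
  classical
  let toC : MvPolynomial (Fin N) k →ₗ[k] (Exp N m → k) := LinearMap.pi fun e => lcoeff k e.toFinsupp
  let fromC : (Exp N m → k) →ₗ[k] MvPolynomial (Fin N) k :=
    ∑ e : Exp N m, (monomial e.toFinsupp).comp (LinearMap.proj e)
  have hid : ∀ p ∈ S, fromC (toC p) = p := fun p hp => by
    conv_rhs => rw [eq_sum_exp p (hS p hp)]
    simp [fromC, toC]
  obtain ⟨b, hbS, hspan, hli⟩ := exists_linearIndependent k (toC '' S)
  haveI := hli.finite
  haveI := Fintype.ofFinite b
  have hcard : Fintype.card b ≤ Fintype.card (Exp N m) := by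
    simpa using hli.fintype_card_le_finrank
  choose s hsS hs using fun x : b => hbS x.2
  refine ⟨Fintype.card b, hcard, fun i => s ((Fintype.equivFin b).symm i), fun i => hS _ (hsS _),
    le_antisymm (Ideal.span_mono (by rintro _ ⟨i, rfl⟩; exact hsS _)) (Ideal.span_le.mpr fun p hp => ?_)⟩
  have h1 : toC p ∈ Submodule.span k b := hspan ▸ Submodule.subset_span ⟨p, hp, rfl⟩
  have h2 := Submodule.mem_map_of_mem (f := fromC) h1
  rw [hid p hp, Submodule.map_span] at h2
  refine (Submodule.span_le (p := (Ideal.span (Set.range fun i => s ((Fintype.equivFin b).symm i))).restrictScalars k)).mpr ?_ h2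
  rintro _ ⟨x, hx, rfl⟩
  refine Ideal.subset_span ⟨Fintype.equivFin b ⟨x, hx⟩, ?_⟩
  simp only [Equiv.symm_apply_apply]
  exact (hid _ (hsS ⟨x, hx⟩)).symm.trans (congrArg fromC (hs ⟨x, hx⟩))

end RadBoundLib
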