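import Groth.Agent.FlatLib.GenericFree
import Groth.Agent.GISpreadLib.Main
import Mathlib

/-!
# Uniform bounds over all fields by Noetherian induction on universal coefficients

`exists_bound`: a property of field-valued points of a Noetherian ring that has a bound near the
generic point of every integral closed subset has a global bound.
`relations_bound`: the relations among finitely many polynomial vectors of bounded degree are
generated by relations of bounded degree, uniformly in the field.
-/

set_option autoImplicit false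
universe u

open TensorProduct MvPolynomial

namespace RadBoundLib

/-- A monotone property of field-valued points with a bound near every generic point is bounded. -/
theorem exists_bound {U : Type u} [CommRing U] [IsNoetherianRing U]
    (P : ∀ (k : Type u) [Field k], (U →+* k) → ℕ → Prop)
    (hmono : ∀ (k : Type u) [Field k] (φ : U →+* k) (D D' : ℕ), D ≤ D' → P k φ D → P k φ D')
    (h : ∀ (p : Ideal U) [p.IsPrime], ∃ f ∉ p, ∃ D : ℕ, ∀ (k : Type u) [Field k] (φ : U →+* k),
      p ≤ RingHom.ker φ → φ f ≠ 0 → P k φ D) :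
    ∃ D : ℕ, ∀ (k : Type u) [Field k] (φ : U →+* k), P k φ D := by
  suffices hI : ∀ I : Ideal U, ∃ D : ℕ, ∀ (k : Type u) [Field k] (φ : U →+* k), I ≤ RingHom.ker φ → P k φ D by
    obtain ⟨D, hD⟩ := hI ⊥
    exact ⟨D, fun k _ φ => hD k φ bot_le⟩
  intro I
  induction I using WellFoundedGT.induction with
  | ind I ih =>
    by_cases hp : I.IsPrime
    · obtain ⟨f, hf, D, hD⟩ := h I
      obtain ⟨D', hD'⟩ := ih (I ⊔ Ideal.span {f})
        (lt_of_le_of_ne le_sup_left fun e => hf (e ▸ Ideal.mem_sup_right (Ideal.mem_span_singleton_self f)))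
      refine ⟨max D D', fun k _ φ hφ => ?_⟩
      by_cases hz : φ f = 0
      · exact hmono k φ _ _ (le_max_right _ _)
          (hD' k φ (sup_le hφ ((Ideal.span_singleton_le_iff_mem _).mpr hz)))
      · exact hmono k φ _ _ (le_max_left _ _) (hD k φ hφ hz)
    · by_cases htop : I = ⊤
      · refine ⟨0, fun k _ φ hφ => absurd (hφ (htop ▸ Submodule.mem_top : (1 : U) ∈ I)) ?_⟩
        simp
      · obtain ⟨a, ha, b, hb, hab⟩ : ∃ a, a ∉ I ∧ ∃ b, b ∉ I ∧ a * b ∈ I := by
          by_contra hcon
          push_neg at hcon
          refine hp ⟨htop, fun {x y} hxy => ?_⟩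
          by_cases hx : x ∈ I
          · exact Or.inl hx
          · by_cases hy : y ∈ I
            · exact Or.inr hy
            · exact absurd hxy (hcon x hx y hy)
        obtain ⟨D₁, hD₁⟩ := ih (I ⊔ Ideal.span {a})
          (lt_of_le_of_ne le_sup_left fun e => ha (e ▸ Ideal.mem_sup_right (Ideal.mem_span_singleton_self a)))
        obtain ⟨D₂, hD₂⟩ := ih (I ⊔ Ideal.span {b})
          (lt_of_le_of_ne le_sup_left fun e => hb (e ▸ Ideal.mem_sup_right (Ideal.mem_span_singleton_self b)))
        refine ⟨max D₁ D₂, fun k _ φ hφ => ?_⟩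
        rcases mul_eq_zero.mp (show φ a * φ b = 0 by rw [← map_mul]; exact hφ hab) with hz | hz
        · exact hmono k φ _ _ (le_max_left _ _)
            (hD₁ k φ (sup_le hφ ((Ideal.span_singleton_le_iff_mem _).mpr hz)))
        · exact hmono k φ _ _ (le_max_right _ _)
            (hD₂ k φ (sup_le hφ ((Ideal.span_singleton_le_iff_mem _).mpr hz)))

variable (N : ℕ)

/-- The exponents with all entries at most `D`. -/
abbrev Exp (D : ℕ) := Fin N → Fin (D + 1)

variable {N}

/-- The exponent as a finitely supported function. -/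
noncomputable def Exp.toFinsupp {D : ℕ} (e : Exp N D) : Fin N →₀ ℕ :=
  Finsupp.equivFunOnFinite.symm fun i => (e i : ℕ)

theorem Exp.toFinsupp_injective {D : ℕ} : Function.Injective (Exp.toFinsupp (N := N) (D := D)) := by
  intro e e' h
  funext i
  exact Fin.ext (congrArg (fun s : Fin N →₀ ℕ => s i) h)

/-- A polynomial of bounded degree is a combination of bounded monomials. -/
theorem eq_sum_exp {k : Type u} [CommRing k] {D : ℕ} (p : MvPolynomial (Fin N) k) (hp : p.totalDegree ≤ D) :
    p = ∑ e : Exp N D, monomial e.toFinsupp (coeff e.toFinsupp p) := by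
  classical
  ext d
  rw [coeff_sum]
  simp only [coeff_monomial]
  by_cases hd : ∀ i, d i ≤ D
  · rw [Finset.sum_eq_single (fun i => ⟨d i, Nat.lt_succ_of_le (hd i)⟩)]
    · have : Exp.toFinsupp (fun i => (⟨d i, Nat.lt_succ_of_le (hd i)⟩ : Fin (D + 1))) = d := by
        ext i; simp [Exp.toFinsupp]
      rw [this, if_pos rfl]
    · intro e _ he
      rw [if_neg]
      intro h
      exact he (funext fun i => Fin.ext (by subst h; simp [Exp.toFinsupp]))
    · intro h; exact absurd (Finset.mem_univ _) h
  · rw [Finset.sum_eq_zero]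
    · by_contra hne
      push_neg at hd
      obtain ⟨i, hi⟩ := hd
      have h1 : d ∈ p.support := mem_support_iff.mpr hne
      have h2 : (d.sum fun _ n => n) ≤ p.totalDegree := le_totalDegree h1
      have h3 : d i ≤ d.sum fun _ n => n := by
        by_cases h0 : i ∈ d.support
        · exact Finset.single_le_sum (f := fun j => d j) (fun _ _ => Nat.zero_le _) h0
        · rw [Finsupp.notMem_support_iff.mp h0]; exact Nat.zero_le _
      omega
    · intro e _
      rw [if_neg]
      intro h
      apply hd
      intro i
      subst h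
      simpa [Exp.toFinsupp] using Nat.le_of_lt_succ (e i).2

theorem map_totalDegree_le {A B : Type u} [CommRing A] [CommRing B] (φ : A →+* B)
    (p : MvPolynomial (Fin N) A) : (map φ p).totalDegree ≤ p.totalDegree :=
  Finset.sup_mono (support_map_subset φ p)

/-- The base change of a vector of polynomials. -/
noncomputable def piMapEquiv (W k : Type u) [CommRing W] [CommRing k] [Algebra W k] (m : ℕ) :
    k ⊗[W] (Fin m → MvPolynomial (Fin N) W) ≃ₗ[k] (Fin m → MvPolynomial (Fin N) k) :=
  (TensorProduct.piRight W k k (fun _ : Fin m => MvPolynomial (Fin N) W)) ≪≫ₗ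
    LinearEquiv.piCongrRight fun _ => (algebraTensorAlgEquiv (σ := Fin N) W k).toLinearEquiv

theorem piMapEquiv_tmul (W k : Type u) [CommRing W] [CommRing k] [Algebra W k] (m : ℕ) (c : k)
    (v : Fin m → MvPolynomial (Fin N) W) (i : Fin m) :
    piMapEquiv W k m (c ⊗ₜ v) i = c • map (algebraMap W k) (v i) := by
  simp [piMapEquiv]

/-- A linear map with generically free cokernel has kernels compatible with base change to fields. -/
theorem ker_lTensor_le_range {W A X Y : Type u} [CommRing W] [CommRing A] [Algebra W A] [AddCommGroup X]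
    [Module W X] [Module A X] [IsScalarTower W A X] [AddCommGroup Y] [Module W Y] [Module A Y]
    [IsScalarTower W A Y] (μ : X →ₗ[A] Y) (W' : Type u) [CommRing W'] [Algebra W W'] [Module.Flat W W']
    [Module.Free W' (W' ⊗[W] (Y ⧸ LinearMap.range μ))] (k : Type u) [CommRing k] [Algebra W k] [Algebra W' k]
    [IsScalarTower W W' k] (z : k ⊗[W] X) (hz : (μ.restrictScalars W).lTensor k z = 0) :
    z ∈ LinearMap.range (((LinearMap.ker μ).subtype.restrictScalars W).lTensor k) := by
  have hinj : Function.Injective (((LinearMap.range μ).subtype.restrictScalars W).lTensor k) :=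
    GISpreadLib.injective_baseChange_of_free_quotient (R' := W') ((LinearMap.range μ).subtype.restrictScalars W)
      ((LinearMap.range μ).mkQ.restrictScalars W) Subtype.val_injective (LinearMap.exact_subtype_mkQ _)
      (Submodule.mkQ_surjective _) k
  have hex : Function.Exact (((LinearMap.ker μ).subtype.restrictScalars W).lTensor k)
      ((μ.rangeRestrict.restrictScalars W).lTensor k) :=
    lTensor_exact k (f := (LinearMap.ker μ).subtype.restrictScalars W) (g := μ.rangeRestrict.restrictScalars W)
      (fun x => by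
        constructor
        · intro hx
          exact ⟨⟨x, LinearMap.mem_ker.mpr (congrArg Subtype.val hx)⟩, rfl⟩
        · rintro ⟨y, rfl⟩
          exact Subtype.ext (LinearMap.mem_ker.mp y.2))
      μ.surjective_rangeRestrict
  refine (hex z).mp (hinj ?_)
  rw [map_zero, ← LinearMap.lTensor_comp_apply]
  exact hz

/-- The linear map of polynomial vectors with given columns. -/
noncomputable def relMap {A : Type u} [CommRing A] {m n : ℕ} (h : Fin n → Fin m → A) :
    (Fin n → A) →ₗ[A] (Fin m → A) where
  toFun v i := ∑ j, v j * h j i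
  map_add' v w := by funext i; simp [add_mul, Finset.sum_add_distrib]
  map_smul' a v := by
    funext i
    simp only [Pi.smul_apply, smul_eq_mul, RingHom.id_apply, Finset.mul_sum, mul_assoc]

theorem relMap_apply {A : Type u} [CommRing A] {m n : ℕ} (h : Fin n → Fin m → A) (v : Fin n → A) (i : Fin m) :
    relMap h v i = ∑ j, v j * h j i := rfl

/-- Near the generic point of a Noetherian domain the relations among polynomial vectors base change. -/
theorem relations_generic {W : Type u} [CommRing W] [IsDomain W] [IsNoetherianRing W] {m n : ℕ}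
    (h : Fin n → Fin m → MvPolynomial (Fin N) W) :
    ∃ f : W, f ≠ 0 ∧ ∃ R : ℕ, ∀ (k : Type u) [Field k] (φ : W →+* k), φ f ≠ 0 →
      ∀ v : Fin n → MvPolynomial (Fin N) k, (∀ i, ∑ j, v j * map φ (h j i) = 0) →
        v ∈ Submodule.span (MvPolynomial (Fin N) k)
          {w : Fin n → MvPolynomial (Fin N) k | (∀ j, (w j).totalDegree ≤ R) ∧ ∀ i, ∑ j, w j * map φ (h j i) = 0} := by
  classical
  let A := MvPolynomial (Fin N) W
  let μ : (Fin n → A) →ₗ[A] (Fin m → A) := relMap h
  obtain ⟨s, hs⟩ := IsNoetherian.noetherian (LinearMap.ker μ)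
  obtain ⟨f, hf, hfree⟩ := FlatLib.gfree_of_finite (R := W) A ((Fin m → A) ⧸ LinearMap.range μ)
  refine ⟨f, hf, s.sup fun w => Finset.univ.sup fun j => (w j).totalDegree, fun k _ φ hφ v hv => ?_⟩
  letI : Algebra W k := φ.toAlgebra
  let W' := Localization.Away f
  letI : Algebra W' k := (IsLocalization.Away.lift f (g := φ) (isUnit_iff_ne_zero.mpr hφ)).toAlgebra
  haveI : IsScalarTower W W' k := IsScalarTower.of_algebraMap_eq fun r =>
    (IsLocalization.Away.lift_eq f (g := φ) (isUnit_iff_ne_zero.mpr hφ) r).symm
  haveI : Module.Flat W W' := IsLocalization.flat _ (Submonoid.powers f)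
  haveI : Module.Free W' (W' ⊗[W] ((Fin m → A) ⧸ LinearMap.range μ)) := hfree
  have key : ∀ (z : k ⊗[W] (Fin n → A)) (i : Fin m),
      piMapEquiv W k m ((μ.restrictScalars W).lTensor k z) i =
        ∑ j, piMapEquiv W k n z j * map φ (h j i) := by
    intro z i
    induction z using TensorProduct.induction_on with
    | zero => simp
    | add x y hx hy => simp only [map_add, Pi.add_apply, hx, hy, add_mul, Finset.sum_add_distrib]
    | tmul c x =>
      rw [LinearMap.lTensor_tmul, piMapEquiv_tmul]
      simp only [piMapEquiv_tmul, smul_mul_assoc, ← Finset.smul_sum]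
      congr 1
      show map (algebraMap W k) (∑ j, x j * h j i) = _
      rw [map_sum]
      exact Finset.sum_congr rfl fun j _ => map_mul _ _ _
  obtain ⟨z, hz⟩ := (piMapEquiv (N := N) W k n).surjective v
  have hz0 : (μ.restrictScalars W).lTensor k z = 0 := by
    apply (piMapEquiv (N := N) W k m).injective
    funext i
    rw [key, map_zero, hz]
    exact hv i
  obtain ⟨y, hy⟩ := ker_lTensor_le_range μ W' k z hz0
  subst hy hz
  clear hz0 hv key
  induction y using TensorProduct.induction_on with
  | zero => simp
  | add a b ha hb =>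
    simp only [map_add]
    exact Submodule.add_mem _ ha hb
  | tmul c x =>
    obtain ⟨x, hx⟩ := x
    rw [LinearMap.lTensor_tmul]
    show piMapEquiv W k n (c ⊗ₜ x) ∈ _
    rw [← hs] at hx
    induction hx using Submodule.span_induction generalizing c with
    | zero => rw [TensorProduct.tmul_zero, map_zero]; exact zero_mem _
    | add a b _ _ ha hb => rw [TensorProduct.tmul_add, map_add]; exact Submodule.add_mem _ (ha c) (hb c)
    | smul a x _ hx =>
      have e : piMapEquiv W k n (c ⊗ₜ (a • x)) =
          map φ a • piMapEquiv W k n (c ⊗ₜ x) := by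
        funext j
        rw [Pi.smul_apply, piMapEquiv_tmul, piMapEquiv_tmul, Pi.smul_apply, smul_eq_mul, smul_eq_mul, map_mul]
        exact (mul_smul_comm _ _ _).symm
      rw [e]
      exact Submodule.smul_mem _ _ (hx c)
    | mem x hx =>
      have e : piMapEquiv W k n (c ⊗ₜ x) = (C c : MvPolynomial (Fin N) k) • (fun j => map φ (x j)) := by
        funext j
        rw [Pi.smul_apply, piMapEquiv_tmul, smul_eq_mul, C_mul']
        rfl
      rw [e]
      refine Submodule.smul_mem _ _ (Submodule.subset_span ⟨fun j => ?_, fun i => ?_⟩)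
      · exact (map_totalDegree_le φ _).trans
          ((Finset.le_sup (f := fun j => (x j).totalDegree) (Finset.mem_univ j)).trans
            (Finset.le_sup (f := fun w : Fin n → A => Finset.univ.sup fun j => (w j).totalDegree) hx))
      · have h0 : x ∈ LinearMap.ker μ := hs ▸ Submodule.subset_span hx
        have := congrArg (map φ) (congrFun (LinearMap.mem_ker.mp h0) i)
        simp only [Pi.zero_apply, map_zero] at this
        rw [← this]
        show _ = map φ (∑ j, x j * h j i)
        rw [map_sum]
        exact Finset.sum_congr rfl fun j _ => (map_mul _ _ _).symm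

/-- Relations among polynomial vectors of bounded degree are generated in bounded degree, uniformly
in the field. -/
theorem relations_bound (N m n D : ℕ) : ∃ R : ℕ, ∀ (k : Type u) [Field k]
    (h : Fin n → Fin m → MvPolynomial (Fin N) k), (∀ j i, (h j i).totalDegree ≤ D) →
      ∀ v : Fin n → MvPolynomial (Fin N) k, (∀ i, ∑ j, v j * h j i = 0) →
        v ∈ Submodule.span (MvPolynomial (Fin N) k)
          {w : Fin n → MvPolynomial (Fin N) k | (∀ j, (w j).totalDegree ≤ R) ∧ ∀ i, ∑ j, w j * h j i = 0} := by
  classical
  let U := MvPolynomial (Fin n × Fin m × Exp N D) (ULift.{u} ℤ)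
  haveI : IsNoetherianRing (ULift.{u} ℤ) :=
    isNoetherianRing_of_surjective ℤ (ULift.{u} ℤ) (ULift.ringEquiv (R := ℤ)).symm.toRingHom (ULift.ringEquiv (R := ℤ)).symm.surjective
  haveI : IsNoetherianRing U := MvPolynomial.isNoetherianRing
  let H : Fin n → Fin m → MvPolynomial (Fin N) U := fun j i =>
    ∑ e : Exp N D, monomial e.toFinsupp (X (j, i, e))
  obtain ⟨R, hR⟩ := exists_bound (U := U)
    (fun k _ φ R => ∀ v : Fin n → MvPolynomial (Fin N) k, (∀ i, ∑ j, v j * map φ (H j i) = 0) →
      v ∈ Submodule.span (MvPolynomial (Fin N) k)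
        {w : Fin n → MvPolynomial (Fin N) k | (∀ j, (w j).totalDegree ≤ R) ∧ ∀ i, ∑ j, w j * map φ (H j i) = 0})
    (fun k _ φ R R' hle hP v hv => Submodule.span_mono (by
      rintro w ⟨hw1, hw2⟩
      exact ⟨fun j => (hw1 j).trans hle, hw2⟩) (hP v hv))
    (fun p _ => by
      obtain ⟨f, hf, R, hR⟩ := relations_generic (W := U ⧸ p) (fun j i => map (Ideal.Quotient.mk p) (H j i))
      obtain ⟨f, rfl⟩ := Ideal.Quotient.mk_surjective f
      refine ⟨f, fun h => hf (Ideal.Quotient.eq_zero_iff_mem.mpr h), R, fun k _ φ hp hφf => ?_⟩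
      let ψ : U ⧸ p →+* k := Ideal.Quotient.lift p φ hp
      have hψ : ψ.comp (Ideal.Quotient.mk p) = φ := Ideal.Quotient.lift_comp_mk _ _ _
      have := hR k ψ (by simpa [ψ] using hφf)
      simpa only [MvPolynomial.map_map, hψ] using this)
  refine ⟨R, fun k _ h hh v hv => ?_⟩
  let φ : U →+* k := eval₂Hom ((Int.castRingHom k).comp ULift.ringEquiv.toRingHom)
    fun x => coeff x.2.2.toFinsupp (h x.1 x.2.1)
  have hH : ∀ j i, map φ (H j i) = h j i := fun j i => by
    conv_rhs => rw [eq_sum_exp (h j i) (hh j i)]
    rw [map_sum]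
    refine Finset.sum_congr rfl fun e _ => ?_
    rw [map_monomial]
    exact congrArg _ (eval₂Hom_X' _ _ _)
  have := hR k φ v
  simp only [hH] at this
  exact this hv

end RadBoundLib
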