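import Groth.Agent.RadBoundLib.Radical
import Groth.Agent.GISpreadLib.Scheme
import Groth.Agent.S0389

/-!
# Spreading reducedness and non-reducedness of geometric fibres
-/

set_option autoImplicit false
set_option linter.style.haveILetI false
universe u

open TensorProduct

namespace RadBoundLib

/-- A flat finitely presented algebra with reduced geometric generic fibre. -/
theorem exists_forall_isReduced_free {R : Type u} [CommRing R] [IsDomain R] (K : Type u) [Field K] [Algebra R K]
    [IsFractionRing R K] (B : Type u) [CommRing B] [Algebra R B] [Algebra.FinitePresentation R B] [Module.Free R B]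
    (h : IsReduced (AlgebraicClosure K ⊗[R] B)) :
    ∃ g : R, g ≠ 0 ∧ ∀ (k : Type u) [Field k] [Algebra R k], algebraMap R k g ≠ 0 → IsReduced (B ⊗[R] k) := by
  haveI : IsNoetherianRing (K ⊗[R] B) := Algebra.FiniteType.isNoetherianRing K (K ⊗[R] B)
  haveI : Algebra.IsGeometricallyReduced K (K ⊗[R] B) := by
    rw [Algebra.isGeometricallyReduced_field_iff]
    exact isReduced_of_injective (Algebra.TensorProduct.cancelBaseChange R K (AlgebraicClosure K) (AlgebraicClosure K) B)
      (AlgEquiv.injective _)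
  exact exists_isReduced_fibres_of_fp K B (K ⊗[R] B) Algebra.TensorProduct.includeRight
    (Algebra.TensorProduct.includeRight_injective (IsFractionRing.injective R K))

/-- A reduced geometric generic fibre gives reduced geometric fibres nearby. -/
theorem exists_forall_isReduced {R : Type u} [CommRing R] [IsDomain R] (B : Type u) [CommRing B] [Algebra R B]
    [Algebra.FiniteType R B] (h : IsReduced (AlgebraicClosure (FractionRing R) ⊗[R] B)) :
    ∃ f : R, f ≠ 0 ∧ ∀ (F : Type u) [Field F] [Algebra R F], algebraMap R F f ≠ 0 → IsReduced (F ⊗[R] B) := by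
  obtain ⟨c, hc, -, hfree, hfp, -⟩ := Groth.Agent.S0389.result (R := R) (S := B) (M := B)
  let R' := Localization.Away c
  let B' := R' ⊗[R] B
  let K := FractionRing R
  have hle : Submonoid.powers c ≤ nonZeroDivisors R := powers_le_nonZeroDivisors_of_noZeroDivisors hc
  haveI : IsDomain R' := IsLocalization.isDomain_localization hle
  have hu : IsUnit (algebraMap R K c) :=
    isUnit_iff_ne_zero.mpr ((map_ne_zero_iff _ (IsFractionRing.injective R K)).mpr hc)
  letI : Algebra R' K := (IsLocalization.Away.lift c hu).toAlgebra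
  haveI : IsScalarTower R R' K := IsScalarTower.of_algebraMap_eq fun r => (IsLocalization.Away.lift_eq c hu r).symm
  haveI : IsFractionRing R' K := IsFractionRing.isFractionRing_of_isDomain_of_isLocalization (Submonoid.powers c) R' K
  haveI : Module.Free R' B' := hfree
  haveI : Algebra.FinitePresentation R' B' := hfp
  obtain ⟨g, hg, H⟩ := exists_forall_isReduced_free (R := R') K B' (by
    let e₂ : AlgebraicClosure K ⊗[R'] B' ≃ₐ[AlgebraicClosure K] AlgebraicClosure K ⊗[R] B :=
      Algebra.TensorProduct.cancelBaseChange R R' (AlgebraicClosure K) (AlgebraicClosure K) B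
    exact isReduced_of_injective e₂ (AlgEquiv.injective _))
  obtain ⟨n, a, ha⟩ := IsLocalization.Away.surj c g
  have ha0 : a ≠ 0 := fun h0 => by
    rw [h0, map_zero] at ha
    exact hg (((IsLocalization.Away.algebraMap_isUnit c).pow n).mul_left_eq_zero.mp ha)
  refine ⟨c * a, mul_ne_zero hc ha0, fun F _ _ hF => ?_⟩
  rw [map_mul, mul_ne_zero_iff] at hF
  obtain ⟨hcF, haF⟩ := hF
  letI : Algebra R' F := (IsLocalization.Away.lift c (isUnit_iff_ne_zero.mpr hcF)).toAlgebra
  haveI : IsScalarTower R R' F := IsScalarTower.of_algebraMap_eq fun r =>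
    (IsLocalization.Away.lift_eq c (isUnit_iff_ne_zero.mpr hcF) r).symm
  haveI := H F (fun h0 => haF (by rw [IsScalarTower.algebraMap_apply R R' F, ← ha, map_mul, h0, zero_mul]))
  let e₂ : F ⊗[R'] B' ≃ₐ[R'] F ⊗[R] B :=
    (Algebra.TensorProduct.cancelBaseChange R R' F F B).restrictScalars R'
  exact isReduced_of_injective (((Algebra.TensorProduct.comm R' B' F).trans e₂).symm) (AlgEquiv.injective _)

/-- The annihilator quotient detects that an element is nonzero after base change. -/
theorem nontrivial_quotient_annihilator {V S L : Type u} [CommRing V] [CommRing S] [Algebra V S] [CommRing L]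
    [Algebra V L] (z : S) (hz : (1 : L) ⊗ₜ[V] z ≠ 0) :
    Nontrivial ((S ⧸ LinearMap.ker (LinearMap.mulLeft S z)) ⊗[V] L) := by
  by_contra hn
  rw [not_nontrivial_iff_subsingleton] at hn
  let μ := ((LinearMap.ker (LinearMap.mulLeft S z)).liftQ (LinearMap.mulLeft S z) le_rfl).restrictScalars V
  have h1 : (1 : L) ⊗ₜ[V] μ (Submodule.Quotient.mk 1) = 0 := by
    have := congrArg (fun t => TensorProduct.comm V S L (μ.rTensor L t))
      (Subsingleton.elim ((Submodule.Quotient.mk (1 : S) : S ⧸ LinearMap.ker (LinearMap.mulLeft S z)) ⊗ₜ[V] (1 : L)) 0)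
    simpa only [LinearMap.rTensor_tmul, TensorProduct.comm_tmul, map_zero] using this
  refine hz ?_
  rwa [show μ (Submodule.Quotient.mk 1) = z from mul_one z] at h1

/-- An element with nonzero image in the generic fibre has nonzero image in the fibres nearby. -/
theorem exists_forall_tmul_ne_zero {V : Type u} [CommRing V] [IsDomain V] (L : Type u) [Field L] [Algebra V L]
    [FaithfulSMul V L] (S : Type u) [CommRing S] [Algebra V S] [Algebra.FiniteType V S] (z : S)
    (hz : (1 : L) ⊗ₜ[V] z ≠ 0) :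
    ∃ h : V, h ≠ 0 ∧ ∀ (F : Type u) [Field F] [Algebra V F], algebraMap V F h ≠ 0 → (1 : F) ⊗ₜ[V] z ≠ 0 := by
  let J : Ideal S := LinearMap.ker (LinearMap.mulLeft S z)
  haveI : Nontrivial ((S ⧸ J) ⊗[V] L) := nontrivial_quotient_annihilator z hz
  obtain ⟨h₁, hh₁, H₁⟩ := GISpreadLib.exists_forall_nontrivial (R := V) L (S ⧸ J)
  obtain ⟨h₂, hh₂, hfree⟩ := FlatLib.gfree_of_finite (R := V) S (S ⧸ LinearMap.range (LinearMap.mulLeft S z))
  refine ⟨h₁ * h₂, mul_ne_zero hh₁ hh₂, fun F _ _ hF h0 => ?_⟩
  rw [map_mul, mul_ne_zero_iff] at hF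
  haveI := H₁ F hF.1
  let V' := Localization.Away h₂
  letI : Algebra V' F := (IsLocalization.Away.lift h₂ (isUnit_iff_ne_zero.mpr hF.2)).toAlgebra
  haveI : IsScalarTower V V' F := IsScalarTower.of_algebraMap_eq fun r =>
    (IsLocalization.Away.lift_eq h₂ (isUnit_iff_ne_zero.mpr hF.2) r).symm
  haveI : Module.Flat V V' := IsLocalization.flat _ (Submonoid.powers h₂)
  haveI : Module.Free V' (V' ⊗[V] (S ⧸ LinearMap.range (LinearMap.mulLeft S z))) := hfree
  let μ := (LinearMap.ker (LinearMap.mulLeft S z)).liftQ (LinearMap.mulLeft S z) le_rfl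
  have hμ : Function.Injective μ := LinearMap.ker_eq_bot.mp (Submodule.ker_liftQ_eq_bot _ _ _ le_rfl)
  have hinj : Function.Injective ((μ.restrictScalars V).lTensor F) :=
    GISpreadLib.injective_baseChange_of_free_quotient (R' := V') (μ.restrictScalars V)
      ((LinearMap.range (LinearMap.mulLeft S z)).mkQ.restrictScalars V) hμ
      (fun x => by
        rw [LinearMap.restrictScalars_apply, Submodule.mkQ_apply, Submodule.Quotient.mk_eq_zero,
          ← Submodule.range_liftQ (LinearMap.ker (LinearMap.mulLeft S z)) (LinearMap.mulLeft S z) le_rfl]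
        rfl)
      (Submodule.mkQ_surjective _) F
  have h1 : (1 : F) ⊗ₜ[V] (Submodule.Quotient.mk (1 : S) : S ⧸ J) = 0 := by
    apply hinj
    rw [map_zero, LinearMap.lTensor_tmul]
    show (1 : F) ⊗ₜ[V] (z * 1) = 0
    rw [mul_one, h0]
  have h2 : (1 : (S ⧸ J) ⊗[V] F) = 0 := by
    have := congrArg (TensorProduct.comm V F (S ⧸ J)) h1
    rwa [TensorProduct.comm_tmul, map_zero] at this
  exact one_ne_zero h2

/-- A geometric generic fibre which is not reduced has no reduced geometric fibres nearby. -/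
theorem exists_forall_not_isReduced {R : Type u} [CommRing R] [IsDomain R] (B : Type u) [CommRing B] [Algebra R B]
    [Algebra.FiniteType R B] (L : Type u) [Field L] [Algebra R L] [FaithfulSMul R L] [Algebra.IsAlgebraic R L]
    (h : ¬ IsReduced (L ⊗[R] B)) :
    ∃ f : R, f ≠ 0 ∧ ∀ (F : Type u) [Field F] [IsAlgClosed F] [Algebra R F], algebraMap R F f ≠ 0 →
      ¬ IsReduced (F ⊗[R] B) := by
  classical
  obtain ⟨z, hz, hz0⟩ : ∃ z : L ⊗[R] B, IsNilpotent z ∧ z ≠ 0 := by
    by_contra hc
    push_neg at hc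
    exact h ⟨fun z hz => hc z hz⟩
  obtain ⟨S, hS⟩ := TensorProduct.exists_finset z
  obtain ⟨y, hy, hint⟩ := Algebra.IsAlgebraic.exists_integral_multiples R (S.image Prod.fst)
  let s : Finset L := S.image fun p => y • p.1
  let V := Algebra.adjoin R (s : Set L)
  haveI : Module.Finite R V := ⟨(Submodule.fg_top _).mpr (fg_adjoin_of_finite s.finite_toSet fun x hx => by
    simp only [s, Finset.coe_image, Set.mem_image] at hx
    obtain ⟨p, hp, rfl⟩ := hx
    exact hint _ (Finset.mem_image_of_mem _ hp))⟩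
  have hmem : ∀ p ∈ S, y • p.1 ∈ V := fun p hp => Algebra.subset_adjoin (Finset.mem_image_of_mem _ hp)
  let z₁ : V ⊗[R] B := ∑ p ∈ S.attach, (⟨y • p.1.1, hmem _ p.2⟩ : V) ⊗ₜ[R] p.1.2
  let e := Algebra.TensorProduct.cancelBaseChange R V L L B
  haveI : FaithfulSMul V L := (faithfulSMul_iff_algebraMap_injective V L).mpr Subtype.val_injective
  have he1 : e ((1 : L) ⊗ₜ z₁) = y • z := by
    conv_rhs => rw [hS, ← Finset.sum_attach, Finset.smul_sum]
    simp only [z₁, tmul_sum, map_sum]
    refine Finset.sum_congr rfl fun p _ => ?_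
    rw [Algebra.TensorProduct.cancelBaseChange_tmul, smul_tmul']
    congr 1
    exact mul_one _
  have hyz : y • z ≠ 0 := by
    intro h0
    have hyu : IsUnit (algebraMap R L y) :=
      isUnit_iff_ne_zero.mpr ((map_ne_zero_iff _ (FaithfulSMul.algebraMap_injective R L)).mpr hy)
    rw [← algebraMap_smul L y z] at h0
    exact hz0 ((hyu.smul_eq_zero).mp h0)
  obtain ⟨n, hn⟩ := hz
  have hn1 : (1 : L) ⊗ₜ[V] (z₁ ^ (n + 1)) = 0 := by
    apply e.injective
    rw [map_zero, ← one_pow (M := L) (n + 1), ← Algebra.TensorProduct.tmul_pow, map_pow, he1, smul_pow,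
      pow_succ z, hn, zero_mul, smul_zero]
  obtain ⟨c, hc, hcz⟩ := GISpreadLib.exists_smul_eq_zero (R := V) L (z₁ ^ (n + 1)) (by
    have := congrArg (TensorProduct.comm V L (V ⊗[R] B)) hn1
    rwa [TensorProduct.comm_tmul, map_zero] at this)
  let z₂ : V ⊗[R] B := c • z₁
  have hz₂ : z₂ ^ (n + 1) = 0 := by
    rw [smul_pow, pow_succ, mul_smul, hcz, smul_zero]
  have hz₂0 : (1 : L) ⊗ₜ[V] z₂ ≠ 0 := by
    intro h0
    have hcu : IsUnit (algebraMap V L c) :=
      isUnit_iff_ne_zero.mpr ((map_ne_zero_iff _ (FaithfulSMul.algebraMap_injective V L)).mpr hc)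
    have h1 : (algebraMap V L c) • ((1 : L) ⊗ₜ[V] z₁) = 0 := by
      exact (algebraMap_smul L c _).trans ((TensorProduct.tmul_smul c (1 : L) z₁).symm.trans h0)
    rw [hcu.smul_eq_zero] at h1
    exact hyz (by rw [← he1, h1, map_zero])
  obtain ⟨g, hg, H⟩ := exists_forall_tmul_ne_zero (V := V) L (V ⊗[R] B) z₂ hz₂0
  obtain ⟨d, v, hv⟩ := Module.Finite.exists_fin (R := R) (M := V)
  haveI : FaithfulSMul R V := (faithfulSMul_iff_algebraMap_injective R V).mpr fun a b hab =>
    FaithfulSMul.algebraMap_injective R L (congrArg Subtype.val hab)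
  obtain ⟨f, hf, hdvd⟩ := (Algebra.IsIntegral.isIntegral (R := R) g).isAlgebraic.exists_nonzero_dvd
    (mem_nonZeroDivisors_of_ne_zero hg)
  refine ⟨f, hf, fun F _ _ _ hF hred => ?_⟩
  obtain ⟨k', _, _, ψ, hψ, _, -⟩ := exists_field_lift v hv F (algebraMap R F)
  let η : F ≃+* k' := RingEquiv.ofBijective (algebraMap F k') IsAlgClosed.algebraMap_bijective_of_isIntegral
  letI : Algebra V F := (η.symm.toRingHom.comp ψ).toAlgebra
  haveI : IsScalarTower R V F := IsScalarTower.of_algebraMap_eq fun r => by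
    show algebraMap R F r = η.symm (ψ (algebraMap R V r))
    rw [← RingHom.comp_apply, hψ]
    exact (η.symm_apply_apply _).symm
  refine H F (fun h0 => hF ?_) ?_
  · obtain ⟨q, hq⟩ := hdvd
    rw [IsScalarTower.algebraMap_apply R V F, hq, map_mul, h0, zero_mul]
  · let e' := Algebra.TensorProduct.cancelBaseChange R V F F B
    apply e'.injective
    rw [map_zero]
    refine hred.eq_zero _ ⟨n + 1, ?_⟩
    rw [← map_pow, Algebra.TensorProduct.tmul_pow, one_pow, hz₂, tmul_zero, map_zero]

end RadBoundLib
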